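/-
Witt's extension theorem for alternating, quadratic and Hermitian forms over an arbitrary field.
-/
import Mathlib

set_option autoImplicit false

namespace Cfsg.Agent.Forms

open Module

section Skeleton

variable {F V : Type*} [Field F] [AddCommGroup V] [Module F V]

/-- A family `G` of linear automorphisms extends every partial map in the family `P` as soon as it can
adjust one vector at a time. -/
theorem extend_of_step [FiniteDimensional F V] (G : (V ≃ₗ[F] V) → Prop) (P : Submodule F V → (V →ₗ[F] V) → Prop)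
    (G_one : G (LinearEquiv.refl F V))
    (G_trans : ∀ g g', G g → G g' → G (g.trans g'))
    (G_symm : ∀ g, G g → G g.symm)
    (P_mono : ∀ X Y f, X ≤ Y → P Y f → P X f)
    (P_comp : ∀ X f g, G g → P X f → P X (g.toLinearMap ∘ₗ f))
    (step : ∀ (H : Submodule F V) (x : V) (f : V →ₗ[F] V), P (H ⊔ F ∙ x) f → x ∉ H → f x ∉ H →
      (∀ h ∈ H, f h = h) → ∃ g, G g ∧ (∀ h ∈ H, g h = h) ∧ g x = f x)
    (X : Submodule F V) (f : V →ₗ[F] V) (hP : P X f) (hinj : ∀ v ∈ X, f v = 0 → v = 0) :
    ∃ g, G g ∧ ∀ v ∈ X, g v = f v := by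
  induction hn : finrank F X using Nat.strong_induction_on generalizing X f with
  | _ n ih =>
    rcases eq_or_ne X ⊥ with rfl | hX
    · exact ⟨_, G_one, fun v hv => by simp [(Submodule.mem_bot F).mp hv]⟩
    · obtain ⟨x, hxX, hx0⟩ := X.ne_bot_iff.mp hX
      -- a complement of `F ∙ x` in `X`
      obtain ⟨H₀, hH₀⟩ := Submodule.exists_isCompl (F ∙ x)
      have hsup : (X ⊓ H₀) ⊔ F ∙ x = X := by
        have hxle : F ∙ x ≤ X := (Submodule.span_singleton_le_iff_mem _ _).mpr hxX
        rw [sup_comm, inf_comm, ← sup_inf_assoc_of_le H₀ hxle, hH₀.sup_eq_top, top_inf_eq]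
      have hxH : x ∉ X ⊓ H₀ := fun h =>
        hx0 (Submodule.disjoint_def.mp hH₀.disjoint x (Submodule.mem_span_singleton_self x) h.2)
      have hlt : X ⊓ H₀ < X := lt_of_le_of_ne inf_le_left (fun h => hxH (h.symm ▸ hxX))
      obtain ⟨g₁, hg₁, hg₁H⟩ := ih _ (hn ▸ Submodule.finrank_lt_finrank_of_lt hlt) (X ⊓ H₀) f
        (P_mono _ _ _ inf_le_left hP) (fun v hv => hinj v hv.1) rfl
      set f' := g₁.symm.toLinearMap ∘ₗ f with hf'
      have hfix : ∀ h ∈ X ⊓ H₀, f' h = h := fun h hh => by simp [hf', ← hg₁H h hh]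
      have hf'x : f' x ∉ X ⊓ H₀ := by
        intro hmem
        have h1 : f (f' x) = f x := by
          rw [← hg₁H _ hmem]; simp [hf']
        have h2 : f' x - x = 0 :=
          hinj _ (sub_mem hmem.1 hxX) (by rw [map_sub, h1, sub_self])
        rw [sub_eq_zero] at h2
        exact hxH (h2 ▸ hmem)
      obtain ⟨g₂, hg₂, hg₂H, hg₂x⟩ := step (X ⊓ H₀) x f'
        (by rw [hsup]; exact P_comp _ _ _ (G_symm _ hg₁) hP) hxH hf'x hfix
      refine ⟨g₂.trans g₁, G_trans _ _ hg₂ hg₁, fun v hv => ?_⟩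
      rw [← hsup, Submodule.mem_sup] at hv
      obtain ⟨h, hh, z, hz, rfl⟩ := hv
      obtain ⟨c, rfl⟩ := Submodule.mem_span_singleton.mp hz
      simp [hg₂H h hh, hg₁H h hh, hg₂x, hf']

end Skeleton

section Dual

variable {F V : Type*} [Field F] [AddCommGroup V] [Module F V] [FiniteDimensional F V]

/-- For a non-degenerate form and a vector outside a subspace there is a vector orthogonal to the subspace
with value one on that vector. -/
theorem exists_apply_eq_of_notMem {σ : F →+* F} [RingHomSurjective σ] (B : V →ₛₗ[σ] V →ₗ[F] F)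
    (hB : B.SeparatingRight) (W : Submodule F V) {x : V} (hx : x ∉ W) :
    ∃ u : V, (∀ w ∈ W, B u w = 0) ∧ B u x = 1 := by
  have hbot : (LinearMap.range B).dualCoannihilator = ⊥ := by
    rw [Submodule.eq_bot_iff]
    intro v hv
    exact hB v fun u => (Submodule.mem_dualCoannihilator v).mp hv _ (LinearMap.mem_range_self B u)
  have htop : LinearMap.range B = ⊤ := by
    have h := Subspace.dualCoannihilator_dualAnnihilator_eq (W := LinearMap.range B)
    rw [hbot, Submodule.dualAnnihilator_bot] at h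
    exact h.symm
  obtain ⟨φ, hφx, hφW⟩ := Submodule.exists_dual_map_eq_bot_of_notMem hx inferInstance
  obtain ⟨u, hu⟩ := LinearMap.range_eq_top.mp htop ((φ x)⁻¹ • φ)
  refine ⟨u, fun w hw => ?_, ?_⟩
  · have : φ w = 0 := (Submodule.eq_bot_iff _).mp hφW _ (Submodule.mem_map_of_mem hw)
    simp [hu, this]
  · simp [hu, hφx]

end Dual

/-! ### Alternating forms -/

section Alternating

variable {F V : Type*} [Field F] [AddCommGroup V] [Module F V] [FiniteDimensional F V]

theorem alt_isometry_mk (B : LinearMap.BilinForm F V) (hB : B.Nondegenerate) (T : V →ₗ[F] V)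
    (hT : ∀ u v, B (T u) (T v) = B u v) : ∃ g : V ≃ₗ[F] V, (∀ u v, B (g u) (g v) = B u v) ∧ ∀ v, g v = T v := by
  have hinj : Function.Injective T := by
    rw [injective_iff_map_eq_zero]
    intro v hv
    exact hB.1 v fun w => by rw [← hT v w, hv]; simp
  exact ⟨LinearEquiv.ofInjectiveEndo T hinj, by simpa using hT, fun v => by simp⟩

theorem witt_alternating_step (B : LinearMap.BilinForm F V) (hB : B.Nondegenerate) (hA : B.IsAlt)
    (H : Submodule F V) (x : V) (f : V →ₗ[F] V)
    (hP : ∀ u ∈ H ⊔ F ∙ x, ∀ v ∈ H ⊔ F ∙ x, B (f u) (f v) = B u v)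
    (hxH : x ∉ H) (hyH : f x ∉ H) (hfix : ∀ h ∈ H, f h = h) :
    ∃ g : V ≃ₗ[F] V, (∀ u v, B (g u) (g v) = B u v) ∧ (∀ h ∈ H, g h = h) ∧ g x = f x := by
  set y := f x with hy
  set d := y - x with hd
  have hxm : x ∈ H ⊔ F ∙ x := Submodule.mem_sup_right (Submodule.mem_span_singleton_self x)
  have hdH : ∀ h ∈ H, B h d = 0 := by
    intro h hh
    have := hP h (Submodule.mem_sup_left hh) x hxm
    rw [hfix h hh] at this
    rw [hd, map_sub, hy, this, sub_self]
  have hsw : ∀ a b, B b a = -B a b := fun a b => (LinearMap.IsAlt.neg hA a b).symm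
  have hself : ∀ a, B a a = 0 := hA.self_eq_zero
  have hdd := hself d
  by_cases ha : B x d = 0
  · by_cases hxd : x ∈ H ⊔ F ∙ d
    · -- a dilation of a hyperbolic pair through `d`
      rw [Submodule.mem_sup] at hxd
      obtain ⟨h, hh, z, hz, hxeq⟩ := hxd
      obtain ⟨c, rfl⟩ := Submodule.mem_span_singleton.mp hz
      have hc : c ≠ 0 := by rintro rfl; simp at hxeq; exact hxH (hxeq ▸ hh)
      have hdnH : d ∉ H := fun h' => hxH (hxeq ▸ add_mem hh (H.smul_mem c h'))
      have hyeq : y = h + (c + 1) • d := by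
        rw [show y = x + d by rw [hd]; abel, ← hxeq, add_smul, one_smul, add_assoc]
      have hc1 : c + 1 ≠ 0 := by
        intro h0
        rw [h0, zero_smul, add_zero] at hyeq
        exact hyH (hyeq ▸ hh)
      obtain ⟨e, heH, hed⟩ := exists_apply_eq_of_notMem B hB.2 H hdnH
      have hde : B d e = -1 := by rw [hsw e d, hed]
      set l := (c + 1) / c with hl
      have hl0 : l ≠ 0 := div_ne_zero hc1 hc
      let T : V →ₗ[F] V := LinearMap.id + (l - 1) • (B e).smulRight d + (l⁻¹ - 1) • (-(B d)).smulRight e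
      have hTv : ∀ v, T v = v + ((l - 1) * B e v) • d + ((l⁻¹ - 1) * -(B d v)) • e := by
        intro v; simp [T, mul_smul]
      have hll : l * l⁻¹ = 1 := mul_inv_cancel₀ hl0
      obtain ⟨g, hg, hgT⟩ := alt_isometry_mk B hB T (by
        intro u v
        simp only [hTv, map_add, map_smul, LinearMap.add_apply, LinearMap.smul_apply, smul_eq_mul, hdd,
          hself e, hde, hed, hsw d u, hsw e u]
        linear_combination (B e u * B d v - B d u * B e v) * hll)
      refine ⟨g, hg, fun k hk => ?_, ?_⟩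
      · rw [hgT, hTv, heH k hk, hsw k d, hdH k hk]; simp
      · have hgh : T h = h := by rw [hTv, heH h hh, hsw h d, hdH h hh]; simp
        have hgd : T d = l • d := by rw [hTv, hed, hdd]; simp [sub_smul]
        rw [hgT, ← hxeq, map_add, map_smul, hgh, hgd, hyeq, smul_smul, hl, mul_div_cancel₀ _ hc]
    · -- a Siegel transformation
      obtain ⟨u, huHd, hux⟩ := exists_apply_eq_of_notMem B hB.2 (H ⊔ F ∙ d) hxd
      have hud : B u d = 0 := huHd d (Submodule.mem_sup_right (Submodule.mem_span_singleton_self d))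
      have huH : ∀ h ∈ H, B u h = 0 := fun h hh => huHd h (Submodule.mem_sup_left hh)
      let T : V →ₗ[F] V := LinearMap.id + (B d).smulRight u + (B u).smulRight d
      have hTv : ∀ v, T v = v + B d v • u + B u v • d := by intro v; simp [T]
      have hdu : B d u = 0 := by rw [hsw u d, hud, neg_zero]
      obtain ⟨g, hg, hgT⟩ := alt_isometry_mk B hB T (by
        intro a b
        simp only [hTv, map_add, map_smul, LinearMap.add_apply, LinearMap.smul_apply, smul_eq_mul, hdd,
          hself u, hud, hdu, hsw d a, hsw u a]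
        ring)
      refine ⟨g, hg, fun k hk => ?_, ?_⟩
      · rw [hgT, hTv, huH k hk, hsw k d, hdH k hk]; simp
      · rw [hgT, hTv, hux, hsw x d, ha, hd]; simp
  · -- a transvection
    let T : V →ₗ[F] V := LinearMap.id + (B x d)⁻¹ • (-(B d)).smulRight d
    have hTv : ∀ v, T v = v + ((B x d)⁻¹ * -(B d v)) • d := by intro v; simp [T, mul_smul]
    obtain ⟨g, hg, hgT⟩ := alt_isometry_mk B hB T (by
      intro a b
      simp only [hTv, map_add, map_smul, LinearMap.add_apply, LinearMap.smul_apply, smul_eq_mul, hdd,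
        hsw d a]
      ring)
    refine ⟨g, hg, fun k hk => ?_, ?_⟩
    · rw [hgT, hTv, hsw k d, hdH k hk]; simp
    · rw [hgT, hTv, hsw x d, neg_neg, inv_mul_cancel₀ ha, one_smul, hd]; abel

/-- Witt's lemma for alternating forms, map version. -/
theorem witt_alternating' (B : LinearMap.BilinForm F V) (hB : B.Nondegenerate) (hA : B.IsAlt)
    (X : Submodule F V) (f : V →ₗ[F] V) (hinj : ∀ v ∈ X, f v = 0 → v = 0)
    (hf : ∀ u ∈ X, ∀ v ∈ X, B (f u) (f v) = B u v) :
    ∃ g : V ≃ₗ[F] V, (∀ u v, B (g u) (g v) = B u v) ∧ ∀ v ∈ X, g v = f v :=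
  extend_of_step (fun g => ∀ u v, B (g u) (g v) = B u v)
    (fun X f => ∀ u ∈ X, ∀ v ∈ X, B (f u) (f v) = B u v) (fun _ _ => rfl)
    (fun g g' hg hg' u v => by simp [hg', hg])
    (fun g hg u v => by rw [← hg (g.symm u) (g.symm v)]; simp)
    (fun X Y f hXY h u hu v hv => h u (hXY hu) v (hXY hv))
    (fun X f g hg h u hu v hv => by simp [hg, h u hu v hv])
    (fun H x f => witt_alternating_step B hB hA H x f) X f hf hinj

/-- Witt's lemma for alternating forms. -/
theorem witt_alternating (B : LinearMap.BilinForm F V) (hB : B.Nondegenerate) (hA : B.IsAlt)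
    (X Y : Submodule F V) (φ : X ≃ₗ[F] Y)
    (hφ : ∀ x x' : X, B (φ x : V) (φ x' : V) = B (x : V) (x' : V)) :
    ∃ g : V ≃ₗ[F] V, (∀ u v : V, B (g u) (g v) = B u v) ∧ ∀ x : X, g (x : V) = (φ x : V) := by
  obtain ⟨f, hf⟩ := LinearMap.exists_extend (Y.subtype ∘ₗ φ.toLinearMap)
  have hfx : ∀ x : X, f x = (φ x : V) := fun x => LinearMap.congr_fun hf x
  obtain ⟨g, hg, hgX⟩ := witt_alternating' B hB hA X f
    (fun v hv h => by
      have := hfx ⟨v, hv⟩
      simp only [h] at this
      simpa using this.symm)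
    (fun u hu v hv => by
      have hu' := hfx ⟨u, hu⟩
      have hv' := hfx ⟨v, hv⟩
      simp only at hu' hv'
      rw [hu', hv', hφ])
  exact ⟨g, hg, fun x => by rw [hgX x x.2, hfx]⟩

end Alternating

/-! ### Quadratic forms -/

section Quadratic

variable {F V : Type*} [Field F] [AddCommGroup V] [Module F V]

theorem polar_eq_of_map_eq (Q : QuadraticForm F V) (T : V →ₗ[F] V) {u v : V} (hu : Q (T u) = Q u)
    (hv : Q (T v) = Q v) (huv : Q (T (u + v)) = Q (u + v)) :
    QuadraticMap.polar Q (T u) (T v) = QuadraticMap.polar Q u v := by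
  rw [map_add] at huv
  rw [QuadraticMap.polar, QuadraticMap.polar, huv, hu, hv]

theorem qmap_add_smul (Q : QuadraticForm F V) (a b : V) (s : F) :
    Q (a + s • b) = Q a + s * s * Q b + s * QuadraticMap.polarBilin Q a b := by
  rw [QuadraticMap.map_add Q, QuadraticMap.map_smul, QuadraticMap.polar_smul_right,
    QuadraticMap.polarBilin_apply_apply]
  simp only [smul_eq_mul]

variable [FiniteDimensional F V]

theorem quadratic_isometry_mk (Q : QuadraticForm F V) (hQ : (QuadraticMap.polarBilin Q).Nondegenerate)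
    (T : V →ₗ[F] V) (hT : ∀ v, Q (T v) = Q v) :
    ∃ g : V ≃ₗ[F] V, (∀ v, Q (g v) = Q v) ∧ ∀ v, g v = T v := by
  have hinj : Function.Injective T := by
    rw [injective_iff_map_eq_zero]
    intro v hv
    refine hQ.1 v fun w => ?_
    rw [QuadraticMap.polarBilin_apply_apply, ← polar_eq_of_map_eq Q T (hT v) (hT w) (hT _), hv,
      QuadraticMap.polar_zero_left]
  exact ⟨LinearEquiv.ofInjectiveEndo T hinj, by simpa using hT, fun v => by simp⟩

theorem witt_quadratic_step (Q : QuadraticForm F V) (hQ : (QuadraticMap.polarBilin Q).Nondegenerate)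
    (H : Submodule F V) (x : V) (f : V →ₗ[F] V) (hP : ∀ u ∈ H ⊔ F ∙ x, Q (f u) = Q u)
    (hxH : x ∉ H) (hyH : f x ∉ H) (hfix : ∀ h ∈ H, f h = h) :
    ∃ g : V ≃ₗ[F] V, (∀ v, Q (g v) = Q v) ∧ (∀ h ∈ H, g h = h) ∧ g x = f x := by
  set B := QuadraticMap.polarBilin Q with hB
  have hxm : x ∈ H ⊔ F ∙ x := Submodule.mem_sup_right (Submodule.mem_span_singleton_self x)
  have hsym : ∀ a b, B a b = B b a := fun a b => by simp [hB, QuadraticMap.polar_comm Q a b]
  set y := f x with hy
  set d := y - x with hd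
  have hdH : ∀ h ∈ H, B h d = 0 := by
    intro h hh
    have := polar_eq_of_map_eq Q f (hP h (Submodule.mem_sup_left hh)) (hP x hxm)
      (hP _ (add_mem (Submodule.mem_sup_left hh) hxm))
    rw [hfix h hh] at this
    rw [hd, map_sub, hy, hB, QuadraticMap.polarBilin_apply_apply, QuadraticMap.polarBilin_apply_apply,
      this, sub_self]
  -- the basic identity `f(x, d) = - Q d`
  have hxd0 : B x d = -Q d := by
    have h1 : Q y = Q x := hP x hxm
    have h2 : y = x + (1 : F) • d := by rw [hd, one_smul]; abel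
    rw [h2, qmap_add_smul, ← hB] at h1
    linear_combination h1
  have hdd : B d d = 2 * Q d := by
    rw [hB, QuadraticMap.polarBilin_apply_apply, QuadraticMap.polar_self, two_nsmul, two_mul]
  by_cases ha : Q d = 0
  · rw [ha, neg_zero] at hxd0
    rw [ha, mul_zero] at hdd
    by_cases hxd : x ∈ H ⊔ F ∙ d
    · -- a dilation of a hyperbolic pair through `d`
      rw [Submodule.mem_sup] at hxd
      obtain ⟨h, hh, z, hz, hxeq⟩ := hxd
      obtain ⟨c, rfl⟩ := Submodule.mem_span_singleton.mp hz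
      have hc : c ≠ 0 := by rintro rfl; simp at hxeq; exact hxH (hxeq ▸ hh)
      have hdnH : d ∉ H := fun h' => hxH (hxeq ▸ add_mem hh (H.smul_mem c h'))
      have hyeq : y = h + (c + 1) • d := by
        rw [show y = x + d by rw [hd]; abel, ← hxeq, add_smul, one_smul, add_assoc]
      have hc1 : c + 1 ≠ 0 := by
        intro h0
        rw [h0, zero_smul, add_zero] at hyeq
        exact hyH (hyeq ▸ hh)
      obtain ⟨e₀, he₀H, he₀d⟩ := exists_apply_eq_of_notMem B hQ.2 H hdnH
      set e := e₀ + (-Q e₀) • d with he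
      have hed : B e d = 1 := by
        simp only [he, map_add, map_smul, LinearMap.add_apply, LinearMap.smul_apply, he₀d, hdd,
          smul_eq_mul, mul_zero, add_zero]
      have hQe : Q e = 0 := by
        rw [he, qmap_add_smul, ← hB, ha, he₀d]; ring
      have heH : ∀ k ∈ H, B e k = 0 := by
        intro k hk
        simp only [he, map_add, map_smul, LinearMap.add_apply, LinearMap.smul_apply, he₀H k hk,
          hsym d k, hdH k hk, smul_eq_mul, mul_zero, add_zero]
      set l := (c + 1) / c with hl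
      have hl0 : l ≠ 0 := div_ne_zero hc1 hc
      let T : V →ₗ[F] V := LinearMap.id + (l - 1) • (B e).smulRight d + (l⁻¹ - 1) • (B d).smulRight e
      have hTv : ∀ v, T v = v + ((l - 1) * B e v) • d + ((l⁻¹ - 1) * B d v) • e := by
        intro v; simp [T, mul_smul]
      have hll : l * l⁻¹ = 1 := mul_inv_cancel₀ hl0
      obtain ⟨g, hg, hgT⟩ := quadratic_isometry_mk Q hQ T (by
        intro v
        rw [hTv, qmap_add_smul, qmap_add_smul, ← hB, ha, hQe]
        simp only [map_add, map_smul, LinearMap.add_apply, LinearMap.smul_apply, smul_eq_mul,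
          hsym v d, hsym v e, hsym d e, hed]
        linear_combination (B e v * B d v) * hll)
      refine ⟨g, hg, fun k hk => ?_, ?_⟩
      · rw [hgT, hTv, heH k hk, hsym d k, hdH k hk]; simp
      · have hgh : T h = h := by rw [hTv, heH h hh, hsym d h, hdH h hh]; simp
        have hgd : T d = l • d := by rw [hTv, hed, hdd]; simp [sub_smul]
        rw [hgT, ← hxeq, map_add, map_smul, hgh, hgd, hyeq, smul_smul, hl, mul_div_cancel₀ _ hc]
    · -- a Siegel transformation
      obtain ⟨u₀, hu₀, hu₀x⟩ := exists_apply_eq_of_notMem B hQ.2 (H ⊔ F ∙ d) hxd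
      set u := (-1 : F) • u₀ with hu
      have hud : B u d = 0 := by
        simp [hu, hu₀ d (Submodule.mem_sup_right (Submodule.mem_span_singleton_self d))]
      have huH : ∀ h ∈ H, B u h = 0 := fun h hh => by simp [hu, hu₀ h (Submodule.mem_sup_left hh)]
      have hux : B u x = -1 := by simp [hu, hu₀x]
      let T : V →ₗ[F] V := LinearMap.id + (B d).smulRight u + (-(B u) - Q u • B d).smulRight d
      have hTv : ∀ v, T v = v + B d v • u + (-(B u v) - Q u * B d v) • d := by intro v; simp [T]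
      obtain ⟨g, hg, hgT⟩ := quadratic_isometry_mk Q hQ T (by
        intro v
        rw [hTv, qmap_add_smul, qmap_add_smul, ← hB, ha]
        simp only [map_add, map_smul, LinearMap.add_apply, LinearMap.smul_apply, smul_eq_mul,
          hud, hsym v d, hsym v u]
        ring)
      refine ⟨g, hg, fun k hk => ?_, ?_⟩
      · rw [hgT, hTv, huH k hk, hsym d k, hdH k hk]; simp
      · rw [hgT, hTv, hux, hsym d x, hxd0, hd]; simp
  · -- a reflection
    let T : V →ₗ[F] V := LinearMap.id + (-(Q d)⁻¹) • (B d).smulRight d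
    have hTv : ∀ v, T v = v + (-(Q d)⁻¹ * B d v) • d := by intro v; simp [T, mul_smul]
    obtain ⟨g, hg, hgT⟩ := quadratic_isometry_mk Q hQ T (by
      intro v
      rw [hTv, qmap_add_smul, ← hB, hsym v d]
      field_simp
      ring)
    refine ⟨g, hg, fun k hk => ?_, ?_⟩
    · rw [hgT, hTv, hsym d k, hdH k hk]; simp
    · rw [hgT, hTv, hsym d x, hxd0, neg_mul_neg, inv_mul_cancel₀ ha, one_smul, hd]; abel

/-- Witt's lemma for quadratic forms, map version. -/
theorem witt_quadratic' (Q : QuadraticForm F V) (hQ : (QuadraticMap.polarBilin Q).Nondegenerate)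
    (X : Submodule F V) (f : V →ₗ[F] V) (hinj : ∀ v ∈ X, f v = 0 → v = 0)
    (hf : ∀ u ∈ X, Q (f u) = Q u) :
    ∃ g : V ≃ₗ[F] V, (∀ v, Q (g v) = Q v) ∧ ∀ v ∈ X, g v = f v :=
  extend_of_step (fun g => ∀ v, Q (g v) = Q v) (fun X f => ∀ u ∈ X, Q (f u) = Q u) (fun _ => rfl)
    (fun g g' hg hg' u => by simp [hg', hg])
    (fun g hg u => by rw [← hg (g.symm u)]; simp)
    (fun X Y f hXY h u hu => h u (hXY hu))
    (fun X f g hg h u hu => by simp [hg, h u hu])
    (fun H x f => witt_quadratic_step Q hQ H x f) X f hf hinj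

/-- Witt's lemma for quadratic forms with non-degenerate polar form, in every characteristic. -/
theorem witt_quadratic (Q : QuadraticForm F V) (hQ : (QuadraticMap.polarBilin Q).Nondegenerate)
    (X Y : Submodule F V) (φ : X ≃ₗ[F] Y) (hφ : ∀ x : X, Q (φ x : V) = Q (x : V)) :
    ∃ g : V ≃ₗ[F] V, (∀ v : V, Q (g v) = Q v) ∧ ∀ x : X, g (x : V) = (φ x : V) := by
  obtain ⟨f, hf⟩ := LinearMap.exists_extend (Y.subtype ∘ₗ φ.toLinearMap)
  have hfx : ∀ x : X, f x = (φ x : V) := fun x => LinearMap.congr_fun hf x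
  obtain ⟨g, hg, hgX⟩ := witt_quadratic' Q hQ X f
    (fun v hv h => by
      have := hfx ⟨v, hv⟩
      simp only [h] at this
      simpa using this.symm)
    (fun u hu => by
      have hu' := hfx ⟨u, hu⟩
      simp only at hu'
      rw [hu', hφ])
  exact ⟨g, hg, fun x => by rw [hgX x x.2, hfx]⟩

end Quadratic

/-! ### Hermitian forms -/

section Hermitian

variable {F V : Type*} [Field F] [AddCommGroup V] [Module F V]

theorem ringHomSurjective_of_involutive {σ : F →+* F} (hσ2 : ∀ a : F, σ (σ a) = a) : RingHomSurjective σ :=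
  ⟨fun a => ⟨σ a, hσ2 a⟩⟩

theorem exists_trace_eq {σ : F →+* F} (hσ : σ ≠ RingHom.id F) (hσ2 : ∀ a : F, σ (σ a) = a) {c : F}
    (hc : σ c = c) : ∃ t, t + σ t = c := by
  obtain ⟨t, ht⟩ : ∃ t, t + σ t ≠ 0 := by
    by_contra h
    push Not at h
    apply hσ
    ext a
    have h1 := h 1
    rw [map_one] at h1
    have : σ a = -a := eq_neg_of_add_eq_zero_right (h a)
    rw [this, RingHom.id_apply, neg_eq_neg_one_mul, ← eq_neg_of_add_eq_zero_left h1, one_mul]
  refine ⟨c * t / (t + σ t), ?_⟩
  have hs : σ (t + σ t) = t + σ t := by rw [map_add, hσ2, add_comm]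
  rw [map_div₀, map_mul, hc, hs, ← add_div, ← mul_add, mul_div_cancel_right₀ _ ht]

variable [FiniteDimensional F V]

theorem herm_isometry_mk {σ : F →+* F} (B : V →ₛₗ[σ] V →ₗ[F] F) (hB : B.Nondegenerate) (T : V →ₗ[F] V)
    (hT : ∀ u v, B (T u) (T v) = B u v) : ∃ g : V ≃ₗ[F] V, (∀ u v, B (g u) (g v) = B u v) ∧ ∀ v, g v = T v := by
  have hinj : Function.Injective T := by
    rw [injective_iff_map_eq_zero]
    intro v hv
    exact hB.1 v fun w => by rw [← hT v w, hv]; simp
  exact ⟨LinearEquiv.ofInjectiveEndo T hinj, by simpa using hT, fun v => by simp⟩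

theorem witt_hermitian_step {σ : F →+* F} (hσ : σ ≠ RingHom.id F) (hσ2 : ∀ a : F, σ (σ a) = a)
    (B : V →ₛₗ[σ] V →ₗ[F] F) (hB : B.Nondegenerate) (hS : B.IsSymm)
    (H : Submodule F V) (x : V) (f : V →ₗ[F] V)
    (hP : ∀ u ∈ H ⊔ F ∙ x, ∀ v ∈ H ⊔ F ∙ x, B (f u) (f v) = B u v)
    (hxH : x ∉ H) (hyH : f x ∉ H) (hfix : ∀ h ∈ H, f h = h) :
    ∃ g : V ≃ₗ[F] V, (∀ u v, B (g u) (g v) = B u v) ∧ (∀ h ∈ H, g h = h) ∧ g x = f x := by
  have := ringHomSurjective_of_involutive hσ2
  have hsw : ∀ a b, B b a = σ (B a b) := fun a b => (hS.eq a b).symm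
  have hxm : x ∈ H ⊔ F ∙ x := Submodule.mem_sup_right (Submodule.mem_span_singleton_self x)
  set y := f x with hy
  set d := y - x with hd
  have hdH : ∀ h ∈ H, B d h = 0 := by
    intro h hh
    have := hP x hxm h (Submodule.mem_sup_left hh)
    rw [hfix h hh] at this
    rw [hd, map_sub, LinearMap.sub_apply, hy, this, sub_self]
  set a := B d x with ha'
  have hsum : σ a + a + B d d = 0 := by
    have h1 : B y y = B x x := hP x hxm x hxm
    have h2 : y = x + d := by rw [hd]; abel
    rw [h2] at h1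
    simp only [map_add, LinearMap.add_apply] at h1
    rw [hsw d x, ← ha'] at h1
    linear_combination h1
  by_cases ha : a = 0
  · rw [ha, map_zero, zero_add, zero_add] at hsum
    by_cases hxd : x ∈ H ⊔ F ∙ d
    · -- a dilation of a hyperbolic pair through `d`
      rw [Submodule.mem_sup] at hxd
      obtain ⟨h, hh, z, hz, hxeq⟩ := hxd
      obtain ⟨c, rfl⟩ := Submodule.mem_span_singleton.mp hz
      have hc : c ≠ 0 := by rintro rfl; simp at hxeq; exact hxH (hxeq ▸ hh)
      have hdnH : d ∉ H := fun h' => hxH (hxeq ▸ add_mem hh (H.smul_mem c h'))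
      have hyeq : y = h + (c + 1) • d := by
        rw [show y = x + d by rw [hd]; abel, ← hxeq, add_smul, one_smul, add_assoc]
      have hc1 : c + 1 ≠ 0 := by
        intro h0
        rw [h0, zero_smul, add_zero] at hyeq
        exact hyH (hyeq ▸ hh)
      obtain ⟨e₀, he₀H, he₀d⟩ := exists_apply_eq_of_notMem B hB.2 H hdnH
      obtain ⟨r, hr⟩ := exists_trace_eq hσ hσ2 (c := -(B e₀ e₀)) (by rw [map_neg, hS.eq])
      set e := e₀ + r • d with he
      have hde₀ : B d e₀ = 1 := by rw [hsw e₀ d, he₀d, map_one]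
      have hed : B e d = 1 := by
        simp only [he, map_add, map_smulₛₗ, LinearMap.add_apply, LinearMap.smul_apply, he₀d, hsum,
          smul_eq_mul, mul_zero, add_zero]
      have hde : B d e = 1 := by rw [hsw e d, hed, map_one]
      have hee : B e e = 0 := by
        simp only [he, map_add, map_smulₛₗ, LinearMap.add_apply, LinearMap.smul_apply, hde₀, he₀d, hsum,
          RingHom.id_apply, smul_eq_mul, mul_zero, add_zero]
        linear_combination hr
      have heH : ∀ k ∈ H, B e k = 0 := by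
        intro k hk
        simp only [he, map_add, map_smulₛₗ, LinearMap.add_apply, LinearMap.smul_apply, he₀H k hk,
          hdH k hk, smul_eq_mul, mul_zero, add_zero]
      set l := (c + 1) / c with hl
      have hl0 : l ≠ 0 := div_ne_zero hc1 hc
      set p := l - 1 with hp
      set s := (σ l)⁻¹ - 1 with hs
      let T : V →ₗ[F] V := LinearMap.id + p • (B e).smulRight d + s • (B d).smulRight e
      have hTv : ∀ v, T v = v + (p * B e v) • d + (s * B d v) • e := by intro v; simp [T, mul_smul]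
      have hls : σ l * (σ l)⁻¹ = 1 := mul_inv_cancel₀ ((map_ne_zero σ).mpr hl0)
      have k1 : (1 + σ p) * (1 + s) = 1 := by
        rw [hp, hs, map_sub, map_one]; linear_combination hls
      have k2 : (1 + p) * (1 + σ s) = 1 := by
        rw [hp, hs, map_sub, map_one, map_inv₀, hσ2]; linear_combination mul_inv_cancel₀ hl0
      obtain ⟨g, hg, hgT⟩ := herm_isometry_mk B hB T (by
        intro u v
        simp only [hTv, map_add, map_smulₛₗ, map_mul, LinearMap.add_apply, LinearMap.smul_apply, hsum,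
          hee, hde, hed, ← hsw, RingHom.id_apply, smul_eq_mul]
        linear_combination (B u e * B d v) * k1 + (B u d * B e v) * k2)
      refine ⟨g, hg, fun k hk => ?_, ?_⟩
      · rw [hgT, hTv, heH k hk, hdH k hk]; simp
      · have hgh : T h = h := by rw [hTv, heH h hh, hdH h hh]; simp
        have hgd : T d = l • d := by rw [hTv, hed, hsum]; simp [hp, sub_smul]
        rw [hgT, ← hxeq, map_add, map_smul, hgh, hgd, hyeq, smul_smul, hl, mul_div_cancel₀ _ hc]
    · -- a Siegel transformation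
      obtain ⟨u, hud', hux⟩ := exists_apply_eq_of_notMem B hB.2 (H ⊔ F ∙ d) hxd
      have hud : B u d = 0 := hud' d (Submodule.mem_sup_right (Submodule.mem_span_singleton_self d))
      have hdu : B d u = 0 := by rw [hsw u d, hud, map_zero]
      have huH : ∀ h ∈ H, B u h = 0 := fun h hh => hud' h (Submodule.mem_sup_left hh)
      obtain ⟨r, hr⟩ := exists_trace_eq hσ hσ2 (c := -(B u u)) (by rw [map_neg, hS.eq])
      let T : V →ₗ[F] V := LinearMap.id + (B u + r • B d).smulRight d + (-(B d)).smulRight u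
      have hTv : ∀ v, T v = v + (B u v + r * B d v) • d + (-(B d v)) • u := by intro v; simp [T]
      obtain ⟨g, hg, hgT⟩ := herm_isometry_mk B hB T (by
        intro a' b
        simp only [hTv, map_add, map_smulₛₗ, map_mul, map_neg, LinearMap.add_apply, LinearMap.smul_apply,
          hsum, hud, hdu, ← hsw, RingHom.id_apply, smul_eq_mul]
        linear_combination (B a' d * B d b) * hr)
      refine ⟨g, hg, fun k hk => ?_, ?_⟩
      · rw [hgT, hTv, huH k hk, hdH k hk]; simp
      · rw [hgT, hTv, hux, ← ha', ha, hd]; simp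
  · -- a quasi-reflection
    let T : V →ₗ[F] V := LinearMap.id + a⁻¹ • (B d).smulRight d
    have hTv : ∀ v, T v = v + (a⁻¹ * B d v) • d := by intro v; simp [T, mul_smul]
    obtain ⟨g, hg, hgT⟩ := herm_isometry_mk B hB T (by
      intro u v
      simp only [hTv, map_add, map_smulₛₗ, map_mul, LinearMap.add_apply, LinearMap.smul_apply, ← hsw,
        RingHom.id_apply, smul_eq_mul, map_inv₀]
      have hsa : σ a ≠ 0 := (map_ne_zero σ).mpr ha
      field_simp
      linear_combination (B u d * B d v) * hsum)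
    refine ⟨g, hg, fun k hk => ?_, ?_⟩
    · rw [hgT, hTv, hdH k hk]; simp
    · rw [hgT, hTv, ← ha', inv_mul_cancel₀ ha, one_smul, hd]; abel

/-- Witt's lemma for Hermitian forms, map version. -/
theorem witt_hermitian' {σ : F →+* F} (hσ : σ ≠ RingHom.id F) (hσ2 : ∀ a : F, σ (σ a) = a)
    (B : V →ₛₗ[σ] V →ₗ[F] F) (hB : B.Nondegenerate) (hS : B.IsSymm)
    (X : Submodule F V) (f : V →ₗ[F] V) (hinj : ∀ v ∈ X, f v = 0 → v = 0)
    (hf : ∀ u ∈ X, ∀ v ∈ X, B (f u) (f v) = B u v) :
    ∃ g : V ≃ₗ[F] V, (∀ u v, B (g u) (g v) = B u v) ∧ ∀ v ∈ X, g v = f v :=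
  extend_of_step (fun g => ∀ u v, B (g u) (g v) = B u v)
    (fun X f => ∀ u ∈ X, ∀ v ∈ X, B (f u) (f v) = B u v) (fun _ _ => rfl)
    (fun g g' hg hg' u v => by simp [hg', hg])
    (fun g hg u v => by rw [← hg (g.symm u) (g.symm v)]; simp)
    (fun X Y f hXY h u hu v hv => h u (hXY hu) v (hXY hv))
    (fun X f g hg h u hu v hv => by simp [hg, h u hu v hv])
    (fun H x f => witt_hermitian_step hσ hσ2 B hB hS H x f) X f hf hinj

/-- Witt's lemma for Hermitian forms. -/
theorem witt_hermitian {σ : F →+* F} (hσ : σ ≠ RingHom.id F) (hσ2 : ∀ a : F, σ (σ a) = a)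
    (B : V →ₛₗ[σ] V →ₗ[F] F) (hB : B.Nondegenerate) (hS : B.IsSymm)
    (X Y : Submodule F V) (φ : X ≃ₗ[F] Y)
    (hφ : ∀ x x' : X, B (φ x : V) (φ x' : V) = B (x : V) (x' : V)) :
    ∃ g : V ≃ₗ[F] V, (∀ u v : V, B (g u) (g v) = B u v) ∧ ∀ x : X, g (x : V) = (φ x : V) := by
  obtain ⟨f, hf⟩ := LinearMap.exists_extend (Y.subtype ∘ₗ φ.toLinearMap)
  have hfx : ∀ x : X, f x = (φ x : V) := fun x => LinearMap.congr_fun hf x
  obtain ⟨g, hg, hgX⟩ := witt_hermitian' hσ hσ2 B hB hS X f
    (fun v hv h => by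
      have := hfx ⟨v, hv⟩
      simp only [h] at this
      simpa using this.symm)
    (fun u hu v hv => by
      have hu' := hfx ⟨u, hu⟩
      have hv' := hfx ⟨v, hv⟩
      simp only at hu' hv'
      rw [hu', hv', hφ])
  exact ⟨g, hg, fun x => by rw [hgX x x.2, hfx]⟩

end Hermitian

end Cfsg.Agent.Forms
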