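/-
Normal forms of alternating, Hermitian and symmetric forms.
-/
import Cfsg.Agent.Lib.Forms.Witt

set_option autoImplicit false

namespace Cfsg.Agent.Forms

open Module

section Symplectic

variable {F V : Type*} [Field F] [AddCommGroup V] [Module F V]

/-- Vectors with the pairing relations of a symplectic basis are linearly independent from each other and
from anything orthogonal to all of them. -/
theorem symplectic_family_combination_eq_zero (B : LinearMap.BilinForm F V) (hA : B.IsAlt) {m : ℕ}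
    (e f : Fin m → V) (hef : ∀ i j, B (e i) (f j) = if i = j then 1 else 0)
    (hee : ∀ i j, B (e i) (e j) = 0) (hff : ∀ i j, B (f i) (f j) = 0)
    (a b : Fin m → F) (r : V) (hr : ∀ i, B r (e i) = 0 ∧ B r (f i) = 0)
    (h : ∑ i, a i • e i + ∑ i, b i • f i + r = 0) : a = 0 ∧ b = 0 := by
  constructor <;> funext j
  · have := congrArg (fun z => B z (f j)) h
    simpa [hef, hff, (hr j).2, Finset.sum_ite_eq'] using this
  · have := congrArg (fun z => B z (e j)) h
    have hfe : ∀ i, B (f i) (e j) = if j = i then -1 else 0 := fun i => by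
      rw [← LinearMap.IsAlt.neg hA (e j) (f i), hef]; split_ifs <;> simp
    simpa [hfe, hee, (hr j).1, Finset.sum_ite_eq] using this

theorem linearIndependent_symplectic_family (B : LinearMap.BilinForm F V) (hA : B.IsAlt) {m : ℕ}
    (e f : Fin m → V) (hef : ∀ i j, B (e i) (f j) = if i = j then 1 else 0)
    (hee : ∀ i j, B (e i) (e j) = 0) (hff : ∀ i j, B (f i) (f j) = 0) :
    LinearIndependent F (Sum.elim e f) := by
  rw [Fintype.linearIndependent_iff]
  intro g hg
  obtain ⟨h1, h2⟩ := symplectic_family_combination_eq_zero B hA e f hef hee hff (g ∘ Sum.inl) (g ∘ Sum.inr) 0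
    (fun i => by simp) (by simpa [Fintype.sum_sum_type] using hg)
  rintro (i | i)
  · exact congrFun h1 i
  · exact congrFun h2 i

/-- A subspace on which an alternating form is non-degenerate has a symplectic basis. -/
theorem exists_symplectic_family [FiniteDimensional F V] (B : LinearMap.BilinForm F V) (hA : B.IsAlt)
    (W : Submodule F V) (hW : ∀ w ∈ W, (∀ v ∈ W, B w v = 0) → w = 0) :
    ∃ (m : ℕ) (e f : Fin m → V), (∀ i, e i ∈ W) ∧ (∀ i, f i ∈ W) ∧
      (∀ i j, B (e i) (f j) = if i = j then 1 else 0) ∧ (∀ i j, B (e i) (e j) = 0) ∧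
      (∀ i j, B (f i) (f j) = 0) ∧ W ≤ Submodule.span F (Set.range (Sum.elim e f)) := by
  induction hn : finrank F W using Nat.strong_induction_on generalizing W with
  | _ n ih =>
    rcases eq_or_ne W ⊥ with rfl | hW0
    · exact ⟨0, Fin.elim0, Fin.elim0, fun i => i.elim0, fun i => i.elim0, fun i => i.elim0,
        fun i => i.elim0, fun i => i.elim0, bot_le⟩
    · obtain ⟨x, hxW, hx0⟩ := W.ne_bot_iff.mp hW0
      obtain ⟨z, hzW, hz⟩ : ∃ z ∈ W, B x z ≠ 0 := by
        by_contra h
        push Not at h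
        exact hx0 (hW x hxW h)
      set y := (B x z)⁻¹ • z with hy
      have hyW : y ∈ W := W.smul_mem _ hzW
      have hxy : B x y = 1 := by simp [hy, hz]
      have hyx : B y x = -1 := by rw [← LinearMap.IsAlt.neg hA x y, hxy]
      have hxx : B x x = 0 := hA.self_eq_zero x
      have hyy : B y y = 0 := hA.self_eq_zero y
      set W' := W ⊓ LinearMap.ker (B x) ⊓ LinearMap.ker (B y) with hW'
      have hmem : ∀ w, w ∈ W' ↔ w ∈ W ∧ B x w = 0 ∧ B y w = 0 := fun w => by
        simp [hW', and_assoc]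
      have hdec : ∀ w ∈ W, w - B x w • y + B y w • x ∈ W' := fun w hw =>
        (hmem _).mpr ⟨add_mem (sub_mem hw (W.smul_mem _ hyW)) (W.smul_mem _ hxW),
          by simp [hxy, hxx], by simp [hyy, hyx]⟩
      have hlt : W' < W := by
        refine lt_of_le_of_ne (fun w hw => ((hmem w).mp hw).1) (fun h => ?_)
        have hy1 := ((hmem y).mp (h.symm ▸ hyW)).2.1
        rw [hxy] at hy1
        exact one_ne_zero hy1
      have hnd : ∀ w ∈ W', (∀ v ∈ W', B w v = 0) → w = 0 := by
        intro w hw h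
        obtain ⟨hwW, h1, h2⟩ := (hmem w).mp hw
        refine hW w hwW fun v hv => ?_
        have := h _ (hdec v hv)
        have h1' : B w x = 0 := by rw [← LinearMap.IsAlt.neg hA x w, h1, neg_zero]
        have h2' : B w y = 0 := by rw [← LinearMap.IsAlt.neg hA y w, h2, neg_zero]
        simpa [h1', h2'] using this
      obtain ⟨m, e, f, he, hf, hef, hee, hff, hspan⟩ :=
        ih _ (hn ▸ Submodule.finrank_lt_finrank_of_lt hlt) W' hnd rfl
      have hxe := fun i => ((hmem _).mp (he i)).2.1
      have hye := fun i => ((hmem _).mp (he i)).2.2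
      have hxf := fun i => ((hmem _).mp (hf i)).2.1
      have hyf := fun i => ((hmem _).mp (hf i)).2.2
      have hex : ∀ i, B (e i) x = 0 := fun i => by rw [← LinearMap.IsAlt.neg hA x (e i), hxe, neg_zero]
      have hey : ∀ i, B (e i) y = 0 := fun i => by rw [← LinearMap.IsAlt.neg hA y (e i), hye, neg_zero]
      have hfy : ∀ i, B (f i) y = 0 := fun i => by rw [← LinearMap.IsAlt.neg hA y (f i), hyf, neg_zero]
      refine ⟨m + 1, Fin.cons x e, Fin.cons y f, ?_, ?_, ?_, ?_, ?_, ?_⟩
      · exact Fin.cases (by simpa using hxW) (fun i => by simpa using ((hmem _).mp (he i)).1)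
      · exact Fin.cases (by simpa using hyW) (fun i => by simpa using ((hmem _).mp (hf i)).1)
      · intro i j
        cases i using Fin.cases <;> cases j using Fin.cases <;>
          simp [hxy, hxf, hey, hef, Fin.succ_ne_zero, (Fin.succ_ne_zero _).symm]
      · intro i j
        cases i using Fin.cases <;> cases j using Fin.cases <;> simp [hxx, hxe, hex, hee]
      · intro i j
        cases i using Fin.cases <;> cases j using Fin.cases <;> simp [hyy, hyf, hfy, hff]
      · intro w hw
        have hsub : Set.range (Sum.elim e f) ⊆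
            Set.range (Sum.elim (Fin.cons x e : Fin (m + 1) → V) (Fin.cons y f)) := by
          rintro _ ⟨i | i, rfl⟩
          · exact ⟨Sum.inl i.succ, by simp⟩
          · exact ⟨Sum.inr i.succ, by simp⟩
        have h := Submodule.span_mono hsub (hspan (hdec w hw))
        have hx' : x ∈ Submodule.span F (Set.range (Sum.elim (Fin.cons x e : Fin (m + 1) → V) (Fin.cons y f))) :=
          Submodule.subset_span ⟨Sum.inl 0, by simp⟩
        have hy' : y ∈ Submodule.span F (Set.range (Sum.elim (Fin.cons x e : Fin (m + 1) → V) (Fin.cons y f))) :=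
          Submodule.subset_span ⟨Sum.inr 0, by simp⟩
        have h' := add_mem (sub_mem h (Submodule.smul_mem _ (B y w) hx')) (Submodule.smul_mem _ (B x w) hy')
        convert h' using 1
        abel

/-- The rank of a symplectic family spanning a subspace. -/
theorem finrank_eq_of_symplectic_family [FiniteDimensional F V] (B : LinearMap.BilinForm F V) (hA : B.IsAlt)
    (W : Submodule F V) {m : ℕ} (e f : Fin m → V) (he : ∀ i, e i ∈ W) (hf : ∀ i, f i ∈ W)
    (hef : ∀ i j, B (e i) (f j) = if i = j then 1 else 0) (hee : ∀ i j, B (e i) (e j) = 0)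
    (hff : ∀ i j, B (f i) (f j) = 0) (hspan : W ≤ Submodule.span F (Set.range (Sum.elim e f))) :
    finrank F W = 2 * m := by
  have hle : Submodule.span F (Set.range (Sum.elim e f)) ≤ W := by
    rw [Submodule.span_le]; rintro _ ⟨i | i, rfl⟩ <;> simp [he, hf]
  rw [le_antisymm hspan hle, finrank_span_eq_card (linearIndependent_symplectic_family B hA e f hef hee hff),
    Fintype.card_sum, Fintype.card_fin, two_mul]

/-- Every alternating form has a symplectic basis of a complement of its radical. -/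
theorem exists_symplectic_basis_with_radical [FiniteDimensional F V] (B : LinearMap.BilinForm F V)
    (hA : B.IsAlt) : ∃ (m k : ℕ) (b : Basis ((Fin m ⊕ Fin m) ⊕ Fin k) F V),
      (∀ i j : Fin m, B (b (Sum.inl (Sum.inl i))) (b (Sum.inl (Sum.inr j))) = if i = j then 1 else 0) ∧
      (∀ i j : Fin m, B (b (Sum.inl (Sum.inl i))) (b (Sum.inl (Sum.inl j))) = 0) ∧
      (∀ i j : Fin m, B (b (Sum.inl (Sum.inr i))) (b (Sum.inl (Sum.inr j))) = 0) ∧
      (∀ (j : Fin k) (v : V), B (b (Sum.inr j)) v = 0) := by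
  obtain ⟨W, hWc⟩ := Submodule.exists_isCompl (LinearMap.ker B)
  have hrad : ∀ r ∈ LinearMap.ker B, ∀ v, B r v = 0 ∧ B v r = 0 := fun r hr v => by
    have h : B r v = 0 := by rw [LinearMap.mem_ker.mp hr]; rfl
    exact ⟨h, by rw [← LinearMap.IsAlt.neg hA r v, h, neg_zero]⟩
  have hW : ∀ w ∈ W, (∀ v ∈ W, B w v = 0) → w = 0 := by
    intro w hw h
    have hwR : w ∈ LinearMap.ker B := by
      rw [LinearMap.mem_ker]; ext v
      obtain ⟨r, hr, w', hw', rfl⟩ := Submodule.mem_sup.mp
        (hWc.sup_eq_top ▸ Submodule.mem_top : v ∈ LinearMap.ker B ⊔ W)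
      simp [(hrad r hr w).2, h w' hw']
    exact Submodule.disjoint_def.mp hWc.disjoint w hwR hw
  obtain ⟨m, e, f, he, hf, hef, hee, hff, hspan⟩ := exists_symplectic_family B hA W hW
  set r := finBasis F (LinearMap.ker B) with hr
  let v : (Fin m ⊕ Fin m) ⊕ Fin (finrank F (LinearMap.ker B)) → V :=
    Sum.elim (Sum.elim e f) (fun j => (r j : V))
  have hli : LinearIndependent F v := by
    rw [Fintype.linearIndependent_iff]
    intro g hg
    set z : LinearMap.ker B := ∑ j, g (Sum.inr j) • r j with hz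
    obtain ⟨h1, h2⟩ := symplectic_family_combination_eq_zero B hA e f hef hee hff
      (fun i => g (Sum.inl (Sum.inl i))) (fun i => g (Sum.inl (Sum.inr i))) (z : V)
      (fun i => ⟨(hrad _ z.2 _).1, (hrad _ z.2 _).1⟩)
      (by simpa [v, hz, Fintype.sum_sum_type] using hg)
    have hz0 : z = 0 := by
      ext
      simpa [v, hz, Fintype.sum_sum_type, fun i => congrFun h1 i, fun i => congrFun h2 i] using hg
    rintro ((i | i) | j)
    · exact congrFun h1 i
    · exact congrFun h2 i
    · exact Fintype.linearIndependent_iff.mp r.linearIndependent _ hz0 j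
  have hsp : ⊤ ≤ Submodule.span F (Set.range v) := by
    rw [← hWc.sup_eq_top]
    refine sup_le (fun x hx => ?_) (hspan.trans (Submodule.span_mono ?_))
    · have hx' := congrArg Subtype.val (r.sum_repr ⟨x, hx⟩)
      simp only [Submodule.coe_sum, Submodule.coe_smul] at hx'
      rw [← hx']
      exact Submodule.sum_mem _ fun j _ => Submodule.smul_mem _ _ (Submodule.subset_span ⟨Sum.inr j, rfl⟩)
    · rintro _ ⟨i, rfl⟩; exact ⟨Sum.inl i, rfl⟩
  refine ⟨m, _, Basis.mk hli hsp, ?_, ?_, ?_, ?_⟩
  · simpa [v] using hef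
  · simpa [v] using hee
  · simpa [v] using hff
  · intro j w; simpa [v] using (hrad _ (r j).2 w).1

end Symplectic

section Norm

variable {F : Type*} [Field F]

/-- Over a finite field the norm of an involutive automorphism is onto the fixed field. -/
theorem exists_norm_eq [Finite F] {σ : F →+* F} (hσ : σ ≠ RingHom.id F) (hσ2 : ∀ a : F, σ (σ a) = a)
    {c : F} (hc : σ c = c) : ∃ s, σ s * s = c := by
  rcases eq_or_ne c 0 with rfl | hc0
  · exact ⟨0, by simp⟩
  let s := Units.map (σ : F →* F)
  let N : Fˣ →* Fˣ := s * MonoidHom.id Fˣ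
  let M : Fˣ →* Fˣ := MonoidHom.id Fˣ / s
  have hs : ∀ x : Fˣ, (s x : F) = σ x := fun _ => rfl
  have hNv : ∀ x : Fˣ, (N x : F) = σ x * x := fun _ => rfl
  have hNM : N.range ≤ M.ker := by
    rintro _ ⟨x, rfl⟩
    refine MonoidHom.mem_ker.mpr (div_eq_one.mpr (Units.ext ?_))
    simp [hNv, hs, hσ2, mul_comm]
  have hMN : N.ker ≤ M.range := by
    intro x hx
    have hx' : σ x * x = 1 := by rw [← hNv, MonoidHom.mem_ker.mp hx, Units.val_one]
    obtain ⟨y, hy0, hy⟩ : ∃ y : F, y ≠ 0 ∧ (x : F) * σ y = y := by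
      have hfix : ∀ t, (x : F) * σ (t + x * σ t) = t + x * σ t := fun t => by
        rw [map_add, map_mul, hσ2]; linear_combination t * hx'
      by_cases h1 : (1 : F) + x = 0
      · obtain ⟨t, ht⟩ : ∃ t, σ t ≠ t := by
          by_contra h; push Not at h; exact hσ (RingHom.ext h)
        refine ⟨_, ?_, hfix t⟩
        rw [eq_neg_of_add_eq_zero_right h1, neg_one_mul, ← sub_eq_add_neg, sub_ne_zero]
        exact ht.symm
      · exact ⟨_, by simpa using h1, hfix 1⟩
    refine ⟨Units.mk0 y hy0, div_eq_iff_eq_mul.mpr (Units.ext ?_)⟩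
    simp [hs, hy]
  have := Fintype.ofFinite F
  have h1 := N.ker.card_mul_index
  have h2 := M.ker.card_mul_index
  rw [Subgroup.index_ker] at h1 h2
  have h3 : Nat.card N.ker ≤ Nat.card M.range := Subgroup.card_le_of_le hMN
  have h4 : Nat.card M.ker ≤ Nat.card N.range := by
    have hNr : 0 < Nat.card M.range := Nat.card_pos
    have : Nat.card M.ker * Nat.card M.range ≤ Nat.card N.range * Nat.card M.range :=
      calc Nat.card M.ker * Nat.card M.range = Nat.card N.ker * Nat.card N.range := by rw [h1, h2]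
        _ ≤ Nat.card M.range * Nat.card N.range := Nat.mul_le_mul_right _ h3
        _ = Nat.card N.range * Nat.card M.range := mul_comm _ _
    exact Nat.le_of_mul_le_mul_right this hNr
  have heq := Subgroup.eq_of_le_of_card_ge hNM h4
  obtain ⟨z, hz⟩ : Units.mk0 c hc0 ∈ N.range :=
    heq ▸ MonoidHom.mem_ker.mpr (div_eq_one.mpr (Units.ext (by simp [hs, hc])))
  exact ⟨z, by rw [← hNv, hz, Units.val_mk0]⟩

end Norm

section Symmetric

variable {F V : Type*} [Field F] [AddCommGroup V] [Module F V] {σ : F →+* F}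

theorem exists_self_ne_zero_of_ne_id (B : V →ₛₗ[σ] V →ₗ[F] F) (hS : B.IsSymm) (hσ : σ ≠ RingHom.id F)
    (W : Submodule F V) {u v : V} (hu : u ∈ W) (hv : v ∈ W) (h : B u v ≠ 0) :
    ∃ x ∈ W, B x x ≠ 0 := by
  by_contra hn
  push Not at hn
  have key : ∀ t : F, t * B u v + σ t * σ (B u v) = 0 := by
    intro t
    have := hn (u + t • v) (add_mem hu (W.smul_mem t hv))
    simpa [hn u hu, hn v hv, ← hS.eq u v] using this
  have h1 := key 1
  rw [map_one, one_mul, one_mul] at h1
  apply hσ
  ext t
  have ht : (t - σ t) * B u v = 0 := by linear_combination key t - σ t * h1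
  rcases mul_eq_zero.mp ht with h' | h'
  · exact (sub_eq_zero.mp h').symm
  · exact absurd h' h

theorem exists_self_ne_zero_of_two_ne_zero (B : LinearMap.BilinForm F V) (hS : LinearMap.IsSymm B)
    (h2 : (2 : F) ≠ 0) (W : Submodule F V) {u v : V} (hu : u ∈ W) (hv : v ∈ W) (h : B u v ≠ 0) :
    ∃ x ∈ W, B x x ≠ 0 := by
  by_contra hn
  push Not at hn
  have := hn (u + v) (add_mem hu hv)
  simp only [map_add, LinearMap.add_apply, hn u hu, hn v hv, ← hS.eq u v, RingHom.id_apply, zero_add, add_zero] at this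
  have h' : (2 : F) * B u v = 0 := by linear_combination this
  rcases mul_eq_zero.mp h' with h'' | h''
  · exact h2 h''
  · exact h h''

variable [FiniteDimensional F V]

/-- Splitting off an anisotropic vector from a non-degenerate subspace. -/
theorem split_anisotropic (B : V →ₛₗ[σ] V →ₗ[F] F) (hS : B.IsSymm) (W : Submodule F V) {x : V}
    (hx : x ∈ W) (hxx : B x x ≠ 0) (hW : ∀ w ∈ W, (∀ v ∈ W, B w v = 0) → w = 0) :
    finrank F ↥(W ⊓ LinearMap.ker (B x)) + 1 = finrank F W ∧
      (∀ w ∈ W ⊓ LinearMap.ker (B x), (∀ v ∈ W ⊓ LinearMap.ker (B x), B w v = 0) → w = 0) := by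
  set W' := W ⊓ LinearMap.ker (B x) with hW'
  have hdec : ∀ w ∈ W, w - (B x w / B x x) • x ∈ W' := fun w hw => by
    refine ⟨sub_mem hw (W.smul_mem _ hx), ?_⟩
    rw [SetLike.mem_coe, LinearMap.mem_ker, map_sub, map_smul, smul_eq_mul, div_mul_cancel₀ _ hxx,
      sub_self]
  constructor
  · have hsup : W' ⊔ F ∙ x = W := by
      refine le_antisymm (sup_le inf_le_left ((Submodule.span_singleton_le_iff_mem _ _).mpr hx)) fun w hw => ?_
      rw [← sub_add_cancel w ((B x w / B x x) • x)]
      exact Submodule.add_mem_sup (hdec w hw) (Submodule.smul_mem _ _ (Submodule.mem_span_singleton_self x))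
    have hdis : W' ⊓ F ∙ x = ⊥ := by
      rw [Submodule.eq_bot_iff]
      rintro v ⟨hv1, hv2⟩
      obtain ⟨c, rfl⟩ := Submodule.mem_span_singleton.mp hv2
      have hc := LinearMap.mem_ker.mp hv1.2
      rw [map_smul, smul_eq_mul, mul_eq_zero, or_iff_left hxx] at hc
      simp [hc]
    have := Submodule.finrank_sup_add_finrank_inf_eq W' (F ∙ x)
    rw [hsup, hdis, finrank_bot, finrank_span_singleton (by rintro rfl; simp at hxx), add_zero] at this
    exact this.symm
  · intro w hw h
    refine hW w hw.1 fun v hv => ?_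
    have hwx : B w x = 0 := by rw [← hS.eq x w, LinearMap.mem_ker.mp hw.2, map_zero]
    simpa [hwx] using h _ (hdec v hv)

end Symmetric

section Hermitian

variable {F V : Type*} [Field F] [Finite F] [AddCommGroup V] [Module F V] [FiniteDimensional F V] {σ : F →+* F}

/-- A non-degenerate subspace for a Hermitian form over a finite field has an orthonormal basis. -/
theorem exists_orthonormal_family (hσ : σ ≠ RingHom.id F) (hσ2 : ∀ a : F, σ (σ a) = a)
    (B : V →ₛₗ[σ] V →ₗ[F] F) (hS : B.IsSymm) : ∀ (n : ℕ) (W : Submodule F V),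
    (∀ w ∈ W, (∀ v ∈ W, B w v = 0) → w = 0) → finrank F W = n →
    ∃ b : Fin n → V, (∀ i, b i ∈ W) ∧ ∀ i j, B (b i) (b j) = if i = j then 1 else 0 := by
  intro n
  induction n with
  | zero => exact fun W _ _ => ⟨Fin.elim0, fun i => i.elim0, fun i => i.elim0⟩
  | succ n ih =>
    intro W hW hn
    obtain ⟨u, hu, hu0⟩ : ∃ u ∈ W, u ≠ 0 := by
      by_contra h
      push Not at h
      rw [(Submodule.eq_bot_iff W).mpr h, finrank_bot] at hn
      omega
    obtain ⟨v, hv, huv⟩ : ∃ v ∈ W, B u v ≠ 0 := by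
      by_contra h; push Not at h; exact hu0 (hW u hu h)
    obtain ⟨x₀, hx₀, hxx₀⟩ := exists_self_ne_zero_of_ne_id B hS hσ W hu hv huv
    obtain ⟨s, hs⟩ := exists_norm_eq hσ hσ2 (c := B x₀ x₀) (hS.eq _ _)
    have hs0 : s ≠ 0 := by rintro rfl; simp [← hs] at hxx₀
    set x := s⁻¹ • x₀ with hx
    have hxW : x ∈ W := W.smul_mem _ hx₀
    have hxx : B x x = 1 := by
      simp only [hx, map_smulₛₗ, map_inv₀, LinearMap.smul_apply, RingHom.id_apply, smul_eq_mul, ← hs]
      field_simp [hs0, (map_ne_zero σ).mpr hs0]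
    obtain ⟨hf, hnd⟩ := split_anisotropic B hS W hxW (by rw [hxx]; exact one_ne_zero) hW
    obtain ⟨b, hb, hbo⟩ := ih (W ⊓ LinearMap.ker (B x)) hnd (by omega)
    have hxb : ∀ i, B x (b i) = 0 := fun i => LinearMap.mem_ker.mp (hb i).2
    have hbx : ∀ i, B (b i) x = 0 := fun i => by rw [← hS.eq, hxb, map_zero]
    refine ⟨Fin.cons x b, Fin.cases (by simpa using hxW) (fun i => by simpa using (hb i).1), fun i j => ?_⟩
    cases i using Fin.cases <;> cases j using Fin.cases <;>
      simp [hxx, hxb, hbx, hbo, Fin.succ_ne_zero, (Fin.succ_ne_zero _).symm]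

theorem exists_orthonormal_basis (hσ : σ ≠ RingHom.id F) (hσ2 : ∀ a : F, σ (σ a) = a)
    (B : V →ₛₗ[σ] V →ₗ[F] F) (hS : B.IsSymm) (hB : B.Nondegenerate) :
    ∃ b : Basis (Fin (finrank F V)) F V, ∀ i j, B (b i) (b j) = if i = j then 1 else 0 := by
  obtain ⟨b, -, hb⟩ := exists_orthonormal_family hσ hσ2 B hS _ ⊤
    (fun w _ h => hB.1 w fun v => h v Submodule.mem_top) (finrank_top F V)
  have hli : LinearIndependent F b := by
    rw [Fintype.linearIndependent_iff]
    intro g hg i
    have := congrArg (B (b i)) hg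
    simpa [map_sum, hb, Finset.sum_ite_eq] using this
  have hsp : ⊤ ≤ Submodule.span F (Set.range b) :=
    ((LinearIndependent.span_eq_top_of_card_eq_finrank' hli (Fintype.card_fin _)).ge)
  exact ⟨Basis.mk hli hsp, fun i j => by simpa using hb i j⟩

end Hermitian

section Orthogonal

variable {F V : Type*} [Field F] [Finite F] [AddCommGroup V] [Module F V] [FiniteDimensional F V]

theorem isSquare_mul_of_not_isSquare {a b : F} (ha : ¬ IsSquare a) (hb : ¬ IsSquare b) : IsSquare (a * b) := by
  classical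
  have := Fintype.ofFinite F
  have h2 : ringChar F ≠ 2 := fun h => ha (FiniteField.isSquare_of_char_two h a)
  have ha' := quadraticChar_neg_one_iff_not_isSquare.mpr ha
  have hb' := quadraticChar_neg_one_iff_not_isSquare.mpr hb
  have ha0 : a ≠ 0 := by rintro rfl; exact ha IsSquare.zero
  have hb0 : b ≠ 0 := by rintro rfl; exact hb IsSquare.zero
  rw [← quadraticChar_one_iff_isSquare (mul_ne_zero ha0 hb0), map_mul, ha', hb']
  norm_num

/-- A non-degenerate subspace of dimension at least two represents one. -/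
theorem exists_self_eq_one (B : LinearMap.BilinForm F V) (hS : LinearMap.IsSymm B) (h2 : (2 : F) ≠ 0)
    (W : Submodule F V) (hW : ∀ w ∈ W, (∀ v ∈ W, B w v = 0) → w = 0) (hn : 2 ≤ finrank F W) :
    ∃ x ∈ W, B x x = 1 := by
  have hne : ∀ U : Submodule F V, (∀ w ∈ U, (∀ v ∈ U, B w v = 0) → w = 0) → 1 ≤ finrank F U →
      ∃ x ∈ U, B x x ≠ 0 := by
    intro U hU h1
    obtain ⟨u, hu, hu0⟩ := U.ne_bot_iff.mp (Submodule.one_le_finrank_iff.mp h1)
    obtain ⟨v, hv, huv⟩ : ∃ v ∈ U, B u v ≠ 0 := by
      by_contra h; push Not at h; exact hu0 (hU u hu h)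
    exact exists_self_ne_zero_of_two_ne_zero B hS h2 U hu hv huv
  obtain ⟨x, hx, hxx⟩ := hne W hW (by omega)
  obtain ⟨hf, hnd⟩ := split_anisotropic B hS W hx hxx hW
  obtain ⟨y, hy, hyy⟩ := hne _ hnd (by omega)
  have hxy : B x y = 0 := LinearMap.mem_ker.mp hy.2
  have hyx : B y x = 0 := by rw [← hS.eq, hxy, map_zero]
  have := Fintype.ofFinite F
  obtain ⟨s, t, hst⟩ := FiniteField.exists_root_sum_quadratic (R := F)
    (f := Polynomial.C (B x x) * Polynomial.X ^ 2 - 1) (g := Polynomial.C (B y y) * Polynomial.X ^ 2)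
    (by rw [Polynomial.degree_sub_eq_left_of_degree_lt] <;>
          rw [Polynomial.degree_C_mul_X_pow 2 hxx]
        · rfl
        · rw [Polynomial.degree_one]; norm_num)
    (by rw [Polynomial.degree_C_mul_X_pow 2 hyy]; rfl)
    (FiniteField.odd_card_of_char_ne_two fun hc => h2 (by
      have := ringChar.of_eq hc
      exact CharP.cast_eq_zero F 2))
  refine ⟨s • x + t • y, add_mem (W.smul_mem _ hx) (W.smul_mem _ hy.1), ?_⟩
  simp only [Polynomial.eval_sub, Polynomial.eval_mul, Polynomial.eval_pow, Polynomial.eval_C,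
    Polynomial.eval_X, Polynomial.eval_one] at hst
  simp only [map_add, map_smulₛₗ, LinearMap.add_apply, LinearMap.smul_apply, RingHom.id_apply, hxy, hyx,
    smul_eq_mul]
  linear_combination hst

/-- Orthogonal basis of a symmetric form with all but the last norm equal to one. -/
theorem exists_orthogonal_family_one_or_nonsquare (B : LinearMap.BilinForm F V) (hS : LinearMap.IsSymm B)
    (h2 : (2 : F) ≠ 0) (α : F) (hα : ¬ IsSquare α) : ∀ (n : ℕ) (W : Submodule F V),
    (∀ w ∈ W, (∀ v ∈ W, B w v = 0) → w = 0) → finrank F W = n + 1 →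
    ∃ b : Fin (n + 1) → V, (∀ i, b i ∈ W) ∧ (∀ i j, i ≠ j → B (b i) (b j) = 0) ∧
      (∀ i, i ≠ Fin.last n → B (b i) (b i) = 1) ∧
      (B (b (Fin.last n)) (b (Fin.last n)) = 1 ∨ B (b (Fin.last n)) (b (Fin.last n)) = α) := by
  intro n
  induction n with
  | zero =>
    intro W hW hn
    obtain ⟨u, hu, hu0⟩ := W.ne_bot_iff.mp (Submodule.one_le_finrank_iff.mp hn.ge)
    obtain ⟨v, hv, huv⟩ : ∃ v ∈ W, B u v ≠ 0 := by
      by_contra h; push Not at h; exact hu0 (hW u hu h)
    obtain ⟨x, hx, hxx⟩ := exists_self_ne_zero_of_two_ne_zero B hS h2 W hu hv huv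
    obtain ⟨s, hs0, hs⟩ : ∃ s : F, s ≠ 0 ∧ (s * s * B x x = 1 ∨ s * s * B x x = α) := by
      by_cases hsq : IsSquare (B x x)
      · obtain ⟨r, hr⟩ := hsq
        have hr0 : r ≠ 0 := by rintro rfl; simp [hr] at hxx
        exact ⟨r⁻¹, inv_ne_zero hr0, .inl (by rw [hr]; field_simp)⟩
      · obtain ⟨r, hr⟩ := isSquare_mul_of_not_isSquare hα hsq
        have hr0 : r ≠ 0 := by
          rintro rfl; exact hxx ((mul_eq_zero.mp (hr.trans (by simp))).resolve_left (fun h => hα (h ▸ IsSquare.zero)))
        refine ⟨r / B x x, div_ne_zero hr0 hxx, .inr ?_⟩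
        field_simp
        linear_combination -hr
    refine ⟨fun _ => s • x, fun _ => W.smul_mem _ hx, fun i j hij => absurd (Fin.ext (by omega)) hij,
      fun i hi => absurd (Fin.ext (by simp only [Fin.val_last]; omega)) hi, ?_⟩
    simpa [mul_assoc] using hs
  | succ n ih =>
    intro W hW hn
    obtain ⟨x, hx, hxx⟩ := exists_self_eq_one B hS h2 W hW (by omega)
    obtain ⟨hf, hnd⟩ := split_anisotropic B hS W hx (by rw [hxx]; exact one_ne_zero) hW
    obtain ⟨b, hb, hbo, hb1, hbl⟩ := ih (W ⊓ LinearMap.ker (B x)) hnd (by omega)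
    have hxb : ∀ i, B x (b i) = 0 := fun i => LinearMap.mem_ker.mp (hb i).2
    have hbx : ∀ i, B (b i) x = 0 := fun i => by rw [← hS.eq, hxb, map_zero]
    refine ⟨Fin.cons x b, Fin.cases (by simpa using hx) (fun i => by simpa using (hb i).1), fun i j hij => ?_,
      fun i hi => ?_, by simpa [← Fin.succ_last] using hbl⟩
    · cases i using Fin.cases <;> cases j using Fin.cases
      · exact absurd rfl hij
      · simp [hxb]
      · simp [hbx]
      · simpa using hbo _ _ (fun h => hij (congrArg Fin.succ h))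
    · cases i using Fin.cases with
      | zero => simpa using hxx
      | succ i => simpa using hb1 i (fun h => hi (h ▸ Fin.succ_last n))

end Orthogonal

end Cfsg.Agent.Forms
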