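/-
Witt's theorem inside the matrix symplectic group, and stabilisers of subspaces.
-/
import Cfsg.Agent.Lib.Forms.Sesq
import Cfsg.Agent.Lib.Symplectic.Basic

set_option autoImplicit false

namespace Cfsg.Agent.Forms

open Matrix Module Cfsg.Agent.Symplectic

section Stabilizing

variable {H : Type*} [Group H] {ι : Type} [Fintype ι] [DecidableEq ι] {F : Type*} [Field F]

/-- An invertible matrix stabilises a subspace as soon as it maps it into itself. -/
theorem mem_stabilizing_submodule_iff (toMat : H →* Matrix ι ι F) (W : Submodule F (ι → F)) (h : H) :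
    h ∈ Cfsg.stabilizing toMat (W : Set (ι → F)) ↔ ∀ w ∈ W, toMat h *ᵥ w ∈ W := by
  refine ⟨fun hh w hw => (hh w).mp hw, fun hh v => ⟨hh v, fun hv => ?_⟩⟩
  set L := (toMat h).mulVecLin with hL
  have hinj : Function.Injective L := by
    intro a b hab
    have := congrArg (fun z => toMat h⁻¹ *ᵥ z) hab
    simpa [hL, Matrix.mulVec_mulVec, ← map_mul] using this
  have hle : W.map L ≤ W := by
    rintro _ ⟨w, hw, rfl⟩
    simpa [hL] using hh w hw
  have heq : W.map L = W := Submodule.eq_of_le_of_finrank_eq hle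
    (LinearEquiv.finrank_eq (Submodule.equivMapOfInjective L hinj W)).symm
  rw [SetLike.mem_coe, ← heq] at hv
  obtain ⟨w, hw, hwv⟩ := hv
  exact (hinj (by simpa [hL] using hwv) : w = v) ▸ hw

end Stabilizing

variable {m : ℕ} {F : Type*} [Field F]

theorem mem_stab_iff (S : Set (Vec m F)) (g : Sp m F) :
    g ∈ Cfsg.stabilizing (Cfsg.spToMat m F) S ↔ ∀ v, v ∈ S ↔ g • v ∈ S := Iff.rfl

theorem mem_stab_submodule_iff (W : Submodule F (Vec m F)) (g : Sp m F) :
    g ∈ Cfsg.stabilizing (Cfsg.spToMat m F) (W : Set (Vec m F)) ↔ ∀ w ∈ W, g • w ∈ W :=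
  mem_stabilizing_submodule_iff (Cfsg.spToMat m F) W g

theorem smul_sum_smul {κ : Type*} [Fintype κ] (g : Sp m F) (c : κ → F) (b : κ → Vec m F) :
    g • (∑ i, c i • b i) = ∑ i, c i • (g • b i) := by
  simp [Finset.smul_sum, smul_comm g (c _)]

/-- The form `sympForm` as a bilinear form. -/
noncomputable def sympBilin (m : ℕ) (F : Type*) [Field F] : LinearMap.BilinForm F (Vec m F) :=
  Matrix.toBilin' (Matrix.J (Fin m) F)

theorem sympBilin_apply (u v : Vec m F) : sympBilin m F u v = Cfsg.sympForm m F u v :=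
  Matrix.toBilin'_apply' _ _ _

theorem sympBilin_isAlt : (sympBilin m F).IsAlt := fun u => by simp [sympBilin_apply]

theorem sympForm_left_cancel {u : Vec m F} (h : ∀ v, Cfsg.sympForm m F u v = 0) : u = 0 := by
  funext i
  rcases i with i | i
  · simpa [sympForm_fI_right] using h (fI i)
  · simpa [sympForm_eI_right] using h (eI i)

theorem sympBilin_nondegenerate : (sympBilin m F).Nondegenerate :=
  ⟨fun u h => sympForm_left_cancel fun v => by simpa [sympBilin_apply] using h v,
    fun u h => sympForm_left_cancel fun v => by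
      rw [sympForm_swap]; simpa [sympBilin_apply] using h v⟩

/-- A linear isometry of the symplectic form as an element of the matrix group. -/
noncomputable def spOfLinearMap (g : Vec m F →ₗ[F] Vec m F)
    (hg : ∀ u v, Cfsg.sympForm m F (g u) (g v) = Cfsg.sympForm m F u v) : Sp m F :=
  ⟨LinearMap.toMatrix' g, (mem_iff_form _).mpr fun u v => by
    rw [LinearMap.toMatrix'_mulVec, LinearMap.toMatrix'_mulVec, hg]⟩

@[simp] theorem spOfLinearMap_smul (g : Vec m F →ₗ[F] Vec m F)
    (hg : ∀ u v, Cfsg.sympForm m F (g u) (g v) = Cfsg.sympForm m F u v) (v : Vec m F) :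
    spOfLinearMap g hg • v = g v := by
  exact LinearMap.toMatrix'_mulVec g v

/-- Witt's theorem in the matrix symplectic group. -/
theorem exists_sp_extend (X : Submodule F (Vec m F)) (f : Vec m F →ₗ[F] Vec m F)
    (hinj : ∀ v ∈ X, f v = 0 → v = 0)
    (hf : ∀ u ∈ X, ∀ v ∈ X, Cfsg.sympForm m F (f u) (f v) = Cfsg.sympForm m F u v) :
    ∃ g : Sp m F, ∀ v ∈ X, g • v = f v := by
  obtain ⟨g, hg, hgX⟩ := witt_alternating' (sympBilin m F) sympBilin_nondegenerate sympBilin_isAlt X f hinj
    (fun u hu v hv => by simpa [sympBilin_apply] using hf u hu v hv)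
  exact ⟨spOfLinearMap g.toLinearMap (fun u v => by simpa [sympBilin_apply] using hg u v),
    fun v hv => by rw [spOfLinearMap_smul]; exact hgX v hv⟩

/-- The symplectic group is transitive on independent tuples with given inner products. -/
theorem exists_smul_tuple {κ : Type*} [Fintype κ] (b b' : κ → Vec m F) (hb : LinearIndependent F b)
    (hb' : LinearIndependent F b')
    (h : ∀ i j, Cfsg.sympForm m F (b' i) (b' j) = Cfsg.sympForm m F (b i) (b j)) :
    ∃ g : Sp m F, ∀ i, g • b i = b' i := by
  obtain ⟨f, hf⟩ := LinearMap.exists_extend ((Basis.span hb).constr F b')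
  have hfb : ∀ i, f (b i) = b' i := fun i => by
    have h2 := LinearMap.congr_fun hf (Basis.span hb i)
    rw [Basis.constr_basis] at h2
    simpa [Basis.span_apply] using h2
  obtain ⟨g, hg⟩ := exists_sp_extend (Submodule.span F (Set.range b)) f
    (fun v hv h0 => by
      obtain ⟨c, rfl⟩ := (Submodule.mem_span_range_iff_exists_fun F).mp hv
      have hc : ∑ i, c i • b' i = 0 := by simpa [hfb, map_sum] using h0
      simp [fun i => Fintype.linearIndependent_iff.mp hb' c hc i])
    (fun u hu v hv => by
      obtain ⟨c, rfl⟩ := (Submodule.mem_span_range_iff_exists_fun F).mp hu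
      obtain ⟨d, rfl⟩ := (Submodule.mem_span_range_iff_exists_fun F).mp hv
      simp only [← sympBilin_apply, map_sum, map_smul, hfb, LinearMap.sum_apply, LinearMap.smul_apply]
      simp only [sympBilin_apply, h])
  exact ⟨g, fun i => by rw [hg _ (Submodule.subset_span ⟨i, rfl⟩), hfb]⟩

/-- The linear map sending the standard basis to a family with the same inner products. -/
def sympEmb {n : ℕ} (x y : Fin n → Vec m F) : Vec n F →ₗ[F] Vec m F :=
  Fintype.linearCombination F (Sum.elim x y)

theorem sympEmb_apply {n : ℕ} (x y : Fin n → Vec m F) (v : Vec n F) :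
    sympEmb x y v = ∑ i, v (Sum.inl i) • x i + ∑ i, v (Sum.inr i) • y i := by
  simp [sympEmb, Fintype.linearCombination_apply, Fintype.sum_sum_type]

theorem sympForm_sympEmb {n : ℕ} (x y : Fin n → Vec m F)
    (hxy : ∀ i j, Cfsg.sympForm m F (x i) (y j) = if i = j then -1 else 0)
    (hxx : ∀ i j, Cfsg.sympForm m F (x i) (x j) = 0) (hyy : ∀ i j, Cfsg.sympForm m F (y i) (y j) = 0)
    (u v : Vec n F) :
    Cfsg.sympForm m F (sympEmb x y u) (sympEmb x y v) = Cfsg.sympForm n F u v := by
  have hyx : ∀ i j, Cfsg.sympForm m F (y i) (x j) = if i = j then 1 else 0 := fun i j => by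
    rw [sympForm_swap, hxy]
    by_cases h : i = j
    · subst h; simp
    · rw [if_neg h, if_neg (Ne.symm h), neg_zero]
  rw [← sympBilin_apply, sympEmb_apply, sympEmb_apply, sympForm_eq_sum]
  simp only [map_add, map_sum, map_smul, LinearMap.add_apply, LinearMap.sum_apply, LinearMap.smul_apply,
    sympBilin_apply, hxy, hxx, hyy, hyx, smul_eq_mul, mul_ite, mul_zero,
    Finset.sum_ite_eq', Finset.mem_univ, if_true, Finset.sum_const_zero, add_zero, zero_add,
    mul_neg, mul_one, Finset.sum_sub_distrib, Finset.sum_neg_distrib]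
  simp only [mul_comm]
  ring

end Cfsg.Agent.Forms
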