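/-
Orders of parabolic subgroups of the symplectic group.
-/
import Cfsg.Agent.Lib.Forms.Symp
import Cfsg.Agent.Lib.Symplectic.Card

set_option autoImplicit false

namespace Cfsg.Agent.Forms

open Matrix Module Cfsg.Agent.Symplectic

variable {m : ℕ} {F : Type*} [Field F]

theorem card_orbit_mul_card_stab {G X : Type*} [Group G] [MulAction G X] (x : X) :
    Nat.card (MulAction.orbit G x) * Nat.card (MulAction.stabilizer G x) = Nat.card G := by
  have h := (MulAction.stabilizer G x).card_mul_index
  rw [MulAction.index_stabilizer] at h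
  rw [Nat.card_coe_set_eq, mul_comm]
  exact h

theorem card_stab_eq_of_smul {G X : Type*} [Group G] [MulAction G X] {x y : X} (g : G) (h : g • x = y) :
    Nat.card (MulAction.stabilizer G x) = Nat.card (MulAction.stabilizer G y) := by
  subst h
  rw [MulAction.stabilizer_smul_eq_stabilizer_map_conj]
  exact Nat.card_congr ((MulAction.stabilizer G x).equivMapOfInjective _ (MulAut.conj g).injective).toEquiv

variable [Fintype F] {q : ℕ}

/-- The expected order of the pointwise stabiliser of `k` independent orthogonal vectors. -/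
def fixOrder (q m k : ℕ) : ℕ :=
  q ^ (k * (k + 1) / 2 + 2 * k * (m - k)) *
    (q ^ ((m - k) ^ 2) * ∏ i ∈ Finset.range (m - k), (q ^ (2 * (i + 1)) - 1))

theorem fixOrder_succ (q m k : ℕ) (hk : k < m) :
    fixOrder q m k = (q ^ (2 * m - k) - q ^ k) * fixOrder q m (k + 1) := by
  obtain ⟨r, rfl⟩ : ∃ r, m = k + 1 + r := ⟨m - (k + 1), by omega⟩
  simp only [fixOrder, show k + 1 + r - k = r + 1 by omega, show k + 1 + r - (k + 1) = r by omega,
    show 2 * (k + 1 + r) - k = k + 2 * (r + 1) by omega, Finset.prod_range_succ]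
  rw [pow_add q k (2 * (r + 1)), ← Nat.mul_sub_one]
  obtain ⟨s, hs⟩ : ∃ s, k * (k + 1) = 2 * s := even_iff_two_dvd.mp (Nat.even_mul_succ_self k)
  have hs' : (k + 1) * (k + 1 + 1) = 2 * (s + (k + 1)) := by linarith
  rw [hs, hs', Nat.mul_div_cancel_left _ two_pos, Nat.mul_div_cancel_left _ two_pos,
    show s + 2 * k * (r + 1) = s + 2 * k * r + 2 * k by ring,
    show s + (k + 1) + 2 * (k + 1) * r = s + 2 * k * r + (k + 1) + 2 * r by ring,
    show (r + 1) ^ 2 = r ^ 2 + 2 * r + 1 by ring]
  simp only [pow_add, pow_mul, pow_one]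
  ring

omit [Fintype F] in
/-- The orthogonal space of a family of vectors. -/
theorem finrank_orth_span {κ : Type*} [Fintype κ] (b : κ → Vec m F) (hb : LinearIndependent F b) :
    finrank F ((sympBilin m F).orthogonal (Submodule.span F (Set.range b))) = 2 * m - Fintype.card κ := by
  rw [LinearMap.BilinForm.finrank_orthogonal sympBilin_nondegenerate, finrank_span_eq_card hb,
    Module.finrank_fintype_fun_eq_card, Fintype.card_sum, Fintype.card_fin, two_mul]

theorem card_extensions (hF : Fintype.card F = q) {k : ℕ} (b : Fin k → Vec m F) (hb : LinearIndependent F b)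
    (hiso : ∀ i j, Cfsg.sympForm m F (b i) (b j) = 0) :
    Nat.card {v : Vec m F // (∀ i, Cfsg.sympForm m F (b i) v = 0) ∧ v ∉ Submodule.span F (Set.range b)} =
      q ^ (2 * m - k) - q ^ k := by
  set W := Submodule.span F (Set.range b) with hW
  have hperp : ∀ v, v ∈ (sympBilin m F).orthogonal W ↔ ∀ i, Cfsg.sympForm m F (b i) v = 0 := by
    intro v
    rw [LinearMap.BilinForm.mem_orthogonal_iff]
    refine ⟨fun h i => by rw [← sympBilin_apply]; exact h _ (Submodule.subset_span ⟨i, rfl⟩),
      fun h w hw => ?_⟩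
    obtain ⟨c, rfl⟩ := (Submodule.mem_span_range_iff_exists_fun F).mp hw
    show sympBilin m F (∑ i, c i • b i) v = 0
    simp [map_sum, LinearMap.sum_apply, sympBilin_apply, h]
  have hset : {v : Vec m F | (∀ i, Cfsg.sympForm m F (b i) v = 0) ∧ v ∉ W} =
      ((sympBilin m F).orthogonal W : Set (Vec m F)) \ (W : Set (Vec m F)) := by
    ext v; simp [hperp]
  show Nat.card {v : Vec m F | (∀ i, Cfsg.sympForm m F (b i) v = 0) ∧ v ∉ W} = _
  rw [hset, Nat.card_coe_set_eq, Set.ncard_sdiff ?_ (Set.toFinite _), ← Nat.card_coe_set_eq,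
    ← Nat.card_coe_set_eq, SetLike.coe_sort_coe, SetLike.coe_sort_coe, Module.natCard_eq_pow_finrank (K := F),
    Module.natCard_eq_pow_finrank (K := F) (V := W), finrank_orth_span b hb,
    finrank_span_eq_card hb, Fintype.card_fin, Nat.card_eq_fintype_card, hF]
  intro v hv
  obtain ⟨c, rfl⟩ := (Submodule.mem_span_range_iff_exists_fun F).mp hv
  rw [SetLike.mem_coe, hperp]
  intro i
  simp [← sympBilin_apply, map_sum, map_smul]
  simp [sympBilin_apply, hiso]

/-- Order of the pointwise stabiliser of independent orthogonal vectors. -/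
theorem card_fix_tuple (hF : Fintype.card F = q) : ∀ (k : ℕ), k ≤ m → ∀ (b : Fin k → Vec m F),
    LinearIndependent F b → (∀ i j, Cfsg.sympForm m F (b i) (b j) = 0) →
    Nat.card (MulAction.stabilizer (Sp m F) b) = fixOrder q m k := by
  classical
  intro k
  induction k with
  | zero =>
    intro _ b _ _
    have : MulAction.stabilizer (Sp m F) b = ⊤ := eq_top_iff.mpr fun g _ => Subsingleton.elim _ _
    rw [this, Subgroup.card_top, card_Sp hF]
    simp [fixOrder]
  | succ k ih =>
    intro hk b hb hiso
    obtain ⟨b₀, v, rfl⟩ : ∃ b₀ v, b = Fin.snoc b₀ v := ⟨Fin.init b, b (Fin.last k), (Fin.snoc_init_self b).symm⟩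
    obtain ⟨hb₀, hv⟩ := linearIndependent_finSnoc.mp hb
    have hiso₀ : ∀ i j, Cfsg.sympForm m F (b₀ i) (b₀ j) = 0 := fun i j => by
      simpa using hiso i.castSucc j.castSucc
    set K := MulAction.stabilizer (Sp m F) b₀ with hK
    have hmemK : ∀ g : Sp m F, g ∈ K ↔ ∀ i, g • b₀ i = b₀ i := fun g => by
      rw [hK, MulAction.mem_stabilizer_iff, funext_iff]; rfl
    have hspan : ∀ g : K, ∀ w ∈ Submodule.span F (Set.range b₀), (g : Sp m F) • w = w := by
      intro g w hw
      obtain ⟨c, rfl⟩ := (Submodule.mem_span_range_iff_exists_fun F).mp hw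
      simp [Finset.smul_sum, smul_comm _ (c _), (hmemK g).mp g.2]
    have horb : MulAction.orbit K v =
        {w : Vec m F | (∀ i, Cfsg.sympForm m F (b₀ i) w = 0) ∧ w ∉ Submodule.span F (Set.range b₀)} := by
      ext w
      constructor
      · rintro ⟨g, rfl⟩
        refine ⟨fun i => ?_, fun hmem => hv ?_⟩
        · show Cfsg.sympForm m F (b₀ i) ((g : Sp m F) • v) = 0
          rw [← (hmemK g).mp g.2 i]
          refine (sympForm_smul_smul (g : Sp m F) (b₀ i) v).trans ?_
          simpa using hiso i.castSucc (Fin.last k)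
        · have h := hspan g⁻¹ _ hmem
          change ((g⁻¹ : K) : Sp m F) • ((g : Sp m F) • v) = (g : Sp m F) • v at h
          rw [InvMemClass.coe_inv, inv_smul_smul] at h
          rw [h]
          exact hmem
      · rintro ⟨hw1, hw2⟩
        obtain ⟨g, hg⟩ := exists_smul_tuple (Fin.snoc b₀ v) (Fin.snoc b₀ w) hb
          (linearIndependent_finSnoc.mpr ⟨hb₀, hw2⟩) (fun i j => by
            rw [hiso i j]
            cases i using Fin.lastCases <;> cases j using Fin.lastCases <;>
              simp [hw1, hiso₀, sympForm_self]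
            rw [sympForm_swap, hw1, neg_zero])
        exact ⟨⟨g, (hmemK g).mpr fun i => by simpa using hg i.castSucc⟩, by
          simpa using hg (Fin.last k)⟩
    have hstab : Nat.card (MulAction.stabilizer K v) =
        Nat.card (MulAction.stabilizer (Sp m F) (Fin.snoc b₀ v : Fin (k + 1) → Vec m F)) := by
      refine Nat.card_congr
        ⟨fun g => ⟨(g.1 : Sp m F), ?_⟩, fun g => ⟨⟨g.1, ?_⟩, ?_⟩, fun _ => rfl, fun _ => rfl⟩
      · rw [MulAction.mem_stabilizer_iff]
        funext i
        cases i using Fin.lastCases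
        · have h2 : (g.1 : Sp m F) • v = v := g.2
          simpa using h2
        · simpa using (hmemK _).mp g.1.2 _
      · exact (hmemK _).mpr fun i => by simpa using congrFun g.2 i.castSucc
      · show g.1 • v = v
        simpa using congrFun g.2 (Fin.last k)
    have h := card_orbit_mul_card_stab (G := K) v
    rw [hstab, horb, ih (by omega) b₀ hb₀ hiso₀, fixOrder_succ q m k (by omega)] at h
    have hc := card_extensions hF b₀ hb₀ hiso₀
    change Nat.card {w : Vec m F | _} = _ at hc
    rw [hc] at h
    refine Nat.eq_of_mul_eq_mul_left ?_ h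
    rw [tsub_pos_iff_lt]
    refine Nat.pow_lt_pow_right ?_ (by omega)
    rw [← hF]
    exact Fintype.one_lt_card

end Cfsg.Agent.Forms
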