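/-
Maximal parabolic subgroups of the general linear group.
-/
import Cfsg.Agent.Lib.Forms.Symp

set_option autoImplicit false

namespace Cfsg.Agent.Forms

open Matrix Module

variable {F : Type*} [Field F] {n : ℕ}

/-- The span of the first `k` coordinate vectors. -/
def coordSub (F : Type*) [Field F] (n k : ℕ) : Submodule F (Fin n → F) where
  carrier := {v | ∀ i : Fin n, k ≤ (i : ℕ) → v i = 0}
  add_mem' ha hb i hi := by simp [ha i hi, hb i hi]
  zero_mem' := by simp
  smul_mem' a v hv i hi := by simp [hv i hi]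

theorem coe_coordSub (k : ℕ) :
    (coordSub F n k : Set (Fin n → F)) = {v | ∀ i : Fin n, k ≤ (i : ℕ) → v i = 0} := rfl

/-- The stabiliser of the first `k` coordinate vectors. -/
abbrev coordStab (F : Type*) [Field F] (n k : ℕ) : Subgroup (GL (Fin n) F) :=
  Cfsg.stabilizing (Cfsg.glToMat (Fin n) F) {v : Fin n → F | ∀ i : Fin n, k ≤ (i : ℕ) → v i = 0}

theorem mem_coordStab_iff_mulVec {k : ℕ} {g : GL (Fin n) F} :
    g ∈ coordStab F n k ↔ ∀ w ∈ coordSub F n k, (g : Matrix (Fin n) (Fin n) F) *ᵥ w ∈ coordSub F n k :=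
  mem_stabilizing_submodule_iff (Cfsg.glToMat (Fin n) F) (coordSub F n k) g

theorem mem_coordStab {k : ℕ} {g : GL (Fin n) F} :
    g ∈ coordStab F n k ↔
      ∀ i j : Fin n, k ≤ (i : ℕ) → (j : ℕ) < k → (g : Matrix (Fin n) (Fin n) F) i j = 0 := by
  rw [mem_coordStab_iff_mulVec]
  constructor
  · intro h i j hi hj
    have := h (Pi.single j 1) (fun l hl => by
      have : l ≠ j := fun e => absurd (e ▸ hl) (not_le.mpr hj)
      simp [this]) i hi
    simpa using this
  · intro h w hw i hi
    show ∑ j, (g : Matrix (Fin n) (Fin n) F) i j * w j = 0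
    refine Finset.sum_eq_zero fun j _ => ?_
    by_cases hj : (j : ℕ) < k
    · simp [h i j hi hj]
    · simp [hw j (not_lt.mp hj)]

/-- Splitting the indices at `k`. -/
def splitEquiv {k : ℕ} (hk : k ≤ n) : Fin k ⊕ Fin (n - k) ≃ Fin n :=
  finSumFinEquiv.trans (finCongr (Nat.add_sub_cancel' hk))

theorem splitEquiv_inl {k : ℕ} (hk : k ≤ n) (i : Fin k) : (splitEquiv hk (Sum.inl i) : ℕ) = i := by
  simp [splitEquiv]

theorem splitEquiv_inr {k : ℕ} (hk : k ≤ n) (i : Fin (n - k)) :
    (splitEquiv hk (Sum.inr i) : ℕ) = k + i := by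
  simp [splitEquiv]

theorem mem_coordStab_iff_blocks {k : ℕ} (hk : k ≤ n) {g : GL (Fin n) F} :
    g ∈ coordStab F n k ↔
      ((g : Matrix (Fin n) (Fin n) F).submatrix (splitEquiv hk) (splitEquiv hk)).toBlocks₂₁ = 0 := by
  rw [mem_coordStab]
  constructor
  · intro h
    ext i j
    exact h _ _ (by rw [splitEquiv_inr]; omega) (by rw [splitEquiv_inl]; exact j.2)
  · intro h i j hi hj
    obtain ⟨s, rfl⟩ := (splitEquiv hk).surjective i
    obtain ⟨t, rfl⟩ := (splitEquiv hk).surjective j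
    rcases s with s | s
    · rw [splitEquiv_inl] at hi; omega
    rcases t with t | t
    · exact congrFun (congrFun h s) t
    · rw [splitEquiv_inr] at hj; omega

/-- A parabolic element is a pair of invertible blocks and an arbitrary rectangle. -/
noncomputable def coordStabEquiv {k : ℕ} (hk : k ≤ n) :
    coordStab F n k ≃ (GL (Fin k) F × GL (Fin (n - k)) F) × Matrix (Fin k) (Fin (n - k)) F where
  toFun g :=
    let M := ((g.1 : GL (Fin n) F) : Matrix (Fin n) (Fin n) F).submatrix (splitEquiv hk) (splitEquiv hk)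
    have h21 : M.toBlocks₂₁ = 0 := (mem_coordStab_iff_blocks hk).mp g.2
    have hdet : M.toBlocks₁₁.det * M.toBlocks₂₂.det ≠ 0 := by
      rw [← Matrix.det_fromBlocks_zero₂₁ M.toBlocks₁₁ M.toBlocks₁₂ M.toBlocks₂₂, ← h21,
        Matrix.fromBlocks_toBlocks, Matrix.det_submatrix_equiv_self,
        ← Matrix.GeneralLinearGroup.val_det_apply]
      exact (Matrix.GeneralLinearGroup.det (g.1 : GL (Fin n) F)).ne_zero
    ((Matrix.GeneralLinearGroup.mkOfDetNeZero _ (left_ne_zero_of_mul hdet),
      Matrix.GeneralLinearGroup.mkOfDetNeZero _ (right_ne_zero_of_mul hdet)), M.toBlocks₁₂)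
  invFun x :=
    ⟨Matrix.GeneralLinearGroup.mkOfDetNeZero
      ((Matrix.fromBlocks (x.1.1 : Matrix (Fin k) (Fin k) F) x.2 0
        (x.1.2 : Matrix (Fin (n - k)) (Fin (n - k)) F)).submatrix (splitEquiv hk).symm (splitEquiv hk).symm)
      (by
        rw [Matrix.det_submatrix_equiv_self, Matrix.det_fromBlocks_zero₂₁,
          ← Matrix.GeneralLinearGroup.val_det_apply, ← Matrix.GeneralLinearGroup.val_det_apply]
        exact mul_ne_zero (Matrix.GeneralLinearGroup.det x.1.1).ne_zero
          (Matrix.GeneralLinearGroup.det x.1.2).ne_zero),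
      (mem_coordStab_iff_blocks hk).mpr (by
        simp [Matrix.submatrix_submatrix, Matrix.GeneralLinearGroup.mkOfDetNeZero])⟩
  left_inv g := by
    refine Subtype.ext (Units.ext ?_)
    have h21 := (mem_coordStab_iff_blocks hk).mp g.2
    set M := ((g.1 : GL (Fin n) F) : Matrix (Fin n) (Fin n) F).submatrix (splitEquiv hk) (splitEquiv hk) with hM
    have key : Matrix.fromBlocks M.toBlocks₁₁ M.toBlocks₁₂ 0 M.toBlocks₂₂ = M := by
      rw [← h21]; exact Matrix.fromBlocks_toBlocks M
    show (Matrix.fromBlocks M.toBlocks₁₁ M.toBlocks₁₂ 0 M.toBlocks₂₂).submatrix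
      (splitEquiv hk).symm (splitEquiv hk).symm = _
    rw [key, hM]
    simp [Matrix.submatrix_submatrix]
  right_inv x := by
    have h : ((Matrix.fromBlocks (x.1.1 : Matrix (Fin k) (Fin k) F) x.2 0
        (x.1.2 : Matrix (Fin (n - k)) (Fin (n - k)) F)).submatrix (splitEquiv hk).symm (splitEquiv hk).symm).submatrix
        (splitEquiv hk) (splitEquiv hk) = Matrix.fromBlocks (x.1.1 : Matrix (Fin k) (Fin k) F) x.2 0
        (x.1.2 : Matrix (Fin (n - k)) (Fin (n - k)) F) := by simp [Matrix.submatrix_submatrix]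
    refine Prod.ext (Prod.ext (Units.ext ?_) (Units.ext ?_)) ?_
    · exact (congrArg Matrix.toBlocks₁₁ h).trans (Matrix.toBlocks_fromBlocks₁₁ _ _ _ _)
    · exact (congrArg Matrix.toBlocks₂₂ h).trans (Matrix.toBlocks_fromBlocks₂₂ _ _ _ _)
    · exact (congrArg Matrix.toBlocks₁₂ h).trans (Matrix.toBlocks_fromBlocks₁₂ _ _ _ _)

/-- Transpose-inverse followed by reversal of the coordinates. -/
noncomputable def graphAut (F : Type*) [Field F] (n : ℕ) : GL (Fin n) F →* GL (Fin n) F :=
  MonoidHom.toHomUnits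
    { toFun := fun g => (((g⁻¹ : GL (Fin n) F) : Matrix (Fin n) (Fin n) F)ᵀ).submatrix Fin.revPerm Fin.revPerm
      map_one' := by simp
      map_mul' := fun a b => by
        rw [Matrix.submatrix_mul_equiv, _root_.mul_inv_rev, Units.val_mul, Matrix.transpose_mul] }

theorem coe_graphAut (g : GL (Fin n) F) (i j : Fin n) :
    (graphAut F n g : Matrix (Fin n) (Fin n) F) i j =
      ((g⁻¹ : GL (Fin n) F) : Matrix (Fin n) (Fin n) F) j.rev i.rev := rfl

theorem graphAut_graphAut (g : GL (Fin n) F) : graphAut F n (graphAut F n g) = g := by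
  refine Units.ext (Matrix.ext fun i j => ?_)
  rw [coe_graphAut, ← map_inv, coe_graphAut, inv_inv, Fin.rev_rev, Fin.rev_rev]

theorem graphAut_mem {k : ℕ} (hk : k ≤ n) {g : GL (Fin n) F} (hg : g ∈ coordStab F n k) :
    graphAut F n g ∈ coordStab F n (n - k) := by
  have hg' := mem_coordStab.mp (inv_mem hg)
  refine mem_coordStab.mpr fun i j hi hj => ?_
  rw [coe_graphAut]
  exact hg' _ _ (by rw [Fin.val_rev]; omega) (by rw [Fin.val_rev]; omega)

theorem map_graphAut {k : ℕ} (hk : k ≤ n) :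
    (coordStab F n k).map (graphAut F n) = coordStab F n (n - k) := by
  refine le_antisymm ?_ fun g hg => ⟨graphAut F n g, ?_, graphAut_graphAut g⟩
  · rintro _ ⟨g, hg, rfl⟩
    exact graphAut_mem hk hg
  · have := graphAut_mem (Nat.sub_le n k) hg
    rwa [Nat.sub_sub_self hk] at this

/-- The only subspaces invariant under a maximal parabolic are the obvious three. -/
theorem coordStab_invariant {j : ℕ} (U : Submodule F (Fin n → F))
    (hU : ∀ g ∈ coordStab F n j, ∀ u ∈ U, (g : Matrix (Fin n) (Fin n) F) *ᵥ u ∈ U) :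
    U = ⊥ ∨ U = ⊤ ∨ U = coordSub F n j := by
  have key : ∀ v ∈ U, ∀ r : Fin n, v r ≠ 0 → ∀ i : Fin n, i ≠ r → ((i : ℕ) < j ∨ j ≤ (r : ℕ)) →
      Pi.single i (1 : F) ∈ U := by
    intro v hv r hr i hir hallow
    let T : GL (Fin n) F := Matrix.GeneralLinearGroup.mkOfDetNeZero (Matrix.transvection i r (1 / v r))
      (by rw [Matrix.det_transvection_of_ne i r hir]; exact one_ne_zero)
    have hT : T ∈ coordStab F n j := mem_coordStab.mpr fun a b ha hb => by
      show Matrix.transvection i r (1 / v r) a b = 0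
      have hab : a ≠ b := fun e => absurd (e ▸ ha) (not_le.mpr hb)
      have hne : ¬ (i = a ∧ r = b) := by
        rintro ⟨rfl, rfl⟩
        rcases hallow with h | h <;> omega
      simp [Matrix.transvection, Matrix.one_apply_ne hab, Matrix.single, hne]
    have h := sub_mem (hU T hT v hv) hv
    have h2 : (T : Matrix (Fin n) (Fin n) F) *ᵥ v - v = Pi.single i 1 := by
      show Matrix.transvection i r (1 / v r) *ᵥ v - v = _
      rw [Matrix.transvection, Matrix.add_mulVec, Matrix.one_mulVec, add_sub_cancel_left]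
      funext a
      by_cases ha : a = i
      · subst ha; simp [Matrix.mulVec, dotProduct, Matrix.single, hr]
      · simp [Matrix.mulVec, dotProduct, Matrix.single, Ne.symm ha, ha]
    rwa [h2] at h
  have full : ∀ v ∈ U, ∀ r : Fin n, v r ≠ 0 → ∀ P : Fin n → Prop, (∀ i, v i ≠ 0 → P i) →
      (∀ i, P i → ((i : ℕ) < j ∨ j ≤ (r : ℕ))) → ∀ i, P i → Pi.single i (1 : F) ∈ U := by
    intro v hv r hr P hsupp hallow i hi
    have hothers : ∀ i, P i → i ≠ r → Pi.single i (1 : F) ∈ U := fun i hi hir => key v hv r hr i hir (hallow i hi)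
    by_cases hir : i = r
    · subst hir
      have hsum : v i • Pi.single i (1 : F) = v - ∑ a ∈ Finset.univ.erase i, v a • Pi.single a (1 : F) := by
        rw [eq_sub_iff_add_eq]
        conv_rhs => rw [pi_eq_sum_univ' v, ← Finset.add_sum_erase _ _ (Finset.mem_univ i)]
      have hmem : v i • Pi.single i (1 : F) ∈ U := by
        rw [hsum]
        refine sub_mem hv (Submodule.sum_mem _ fun a ha => ?_)
        by_cases hva : v a = 0
        · simp [hva]
        · exact U.smul_mem _ (hothers a (hsupp a hva) (Finset.ne_of_mem_erase ha))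
      simpa [smul_smul, inv_mul_cancel₀ hr] using U.smul_mem (v i)⁻¹ hmem
    · exact hothers i hi hir
  by_cases hU0 : U = ⊥
  · exact Or.inl hU0
  by_cases hle : U ≤ coordSub F n j
  · refine Or.inr (Or.inr (le_antisymm hle fun w hw => ?_))
    obtain ⟨v, hv, hv0⟩ := U.ne_bot_iff.mp hU0
    obtain ⟨r, hr⟩ := Function.ne_iff.mp hv0
    rw [pi_eq_sum_univ' w]
    refine Submodule.sum_mem _ fun i _ => ?_
    by_cases hi : (i : ℕ) < j
    · refine U.smul_mem _ (full v hv r hr (fun a => (a : ℕ) < j) (fun a ha => ?_) (fun a ha => Or.inl ha) i hi)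
      by_contra h
      exact ha (hle hv a (not_lt.mp h))
    · simp [hw i (not_lt.mp hi)]
  · refine Or.inr (Or.inl (eq_top_iff.mpr fun w _ => ?_))
    obtain ⟨v, hv, hvn⟩ := SetLike.not_le_iff_exists.mp hle
    obtain ⟨r, hrj, hr⟩ : ∃ r : Fin n, j ≤ (r : ℕ) ∧ v r ≠ 0 := by
      by_contra h
      push Not at h
      exact hvn h
    rw [pi_eq_sum_univ' w]
    exact Submodule.sum_mem _ fun i _ =>
      U.smul_mem _ (full v hv r hr (fun _ => True) (fun _ _ => trivial) (fun _ _ => Or.inr hrj) i trivial)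

/-- Linear equivalence of `coordSub` with `F^k`. -/
def coordSubEquiv {k : ℕ} (hk : k ≤ n) : coordSub F n k ≃ₗ[F] (Fin k → F) where
  toFun v i := v.1 (Fin.castLE hk i)
  invFun w := ⟨fun i => if h : (i : ℕ) < k then w ⟨i, h⟩ else 0, fun i hi => by simp [not_lt.mpr hi]⟩
  left_inv v := by
    refine Subtype.ext (funext fun i => ?_)
    by_cases h : (i : ℕ) < k
    · simp [h]
    · simpa [h] using (v.2 i (not_lt.mp h)).symm
  right_inv w := by funext i; simp
  map_add' _ _ := rfl
  map_smul' _ _ := rfl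

theorem finrank_coordSub {k : ℕ} (hk : k ≤ n) : finrank F (coordSub F n k) = k := by
  rw [(coordSubEquiv hk).finrank_eq, Module.finrank_fintype_fun_eq_card, Fintype.card_fin]

theorem one_add_vecMulVec_mul (u φ : Fin n → F) (h : φ ⬝ᵥ u = 0) :
    (1 + Matrix.vecMulVec u φ) * (1 - Matrix.vecMulVec u φ) = 1 := by
  rw [Matrix.mul_sub, Matrix.mul_one, Matrix.add_mul, Matrix.one_mul, Matrix.vecMulVec_mul_vecMulVec, h,
    zero_smul, Matrix.vecMulVec_zero, add_zero, add_sub_cancel_right]

theorem vecMulVec_mulVec' (a b x : Fin n → F) : Matrix.vecMulVec a b *ᵥ x = (b ⬝ᵥ x) • a := by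
  funext i
  simp [Matrix.vecMulVec_mulVec, mul_comm]

/-- A maximal parabolic is a maximal subgroup. -/
theorem isCoatom_coordStab {k : ℕ} (hk0 : 0 < k) (hkn : k < n) : IsCoatom (coordStab F n k) := by
  classical
  refine ⟨fun htop => ?_, fun H hH => ?_⟩
  · have hij : (⟨k, hkn⟩ : Fin n) ≠ ⟨0, by omega⟩ := fun e => by
      have := congrArg Fin.val e; simp only at this; omega
    let T : GL (Fin n) F := Matrix.GeneralLinearGroup.mkOfDetNeZero (Matrix.transvection ⟨k, hkn⟩ ⟨0, by omega⟩ 1)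
      (by rw [Matrix.det_transvection_of_ne _ _ hij]; exact one_ne_zero)
    have hT : T ∈ coordStab F n k := htop ▸ Subgroup.mem_top T
    have h := mem_coordStab.mp hT ⟨k, hkn⟩ ⟨0, by omega⟩ le_rfl hk0
    change Matrix.transvection _ _ _ _ _ = (0 : F) at h
    simp [Matrix.transvection, Matrix.one_apply_ne hij] at h
  obtain ⟨h, hhH, hhP⟩ := SetLike.exists_of_lt hH
  obtain ⟨w, hw, hwa⟩ : ∃ w ∈ coordSub F n k, (h : Matrix (Fin n) (Fin n) F) *ᵥ w ∉ coordSub F n k := by
    by_contra hc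
    push Not at hc
    exact hhP (mem_coordStab_iff_mulVec.mpr hc)
  set a := (h : Matrix (Fin n) (Fin n) F) *ᵥ w with ha
  let tv : ∀ (u φ : Fin n → F), φ ⬝ᵥ u = 0 → GL (Fin n) F := fun u φ hu =>
    ⟨1 + Matrix.vecMulVec u φ, 1 - Matrix.vecMulVec u φ, one_add_vecMulVec_mul u φ hu,
      mul_eq_one_comm.mp (one_add_vecMulVec_mul u φ hu)⟩
  -- every transvection with centre `a` lies in `H`
  have hT : ∀ (φ : Fin n → F) (hφ : φ ⬝ᵥ a = 0), tv a φ hφ ∈ H := by
    intro φ hφ
    have hP : h⁻¹ * tv a φ hφ * h ∈ coordStab F n k := by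
      rw [mem_coordStab_iff_mulVec]
      intro x hx
      rw [Units.val_mul, Units.val_mul, ← Matrix.mulVec_mulVec, ← Matrix.mulVec_mulVec]
      show _ *ᵥ ((1 + Matrix.vecMulVec a φ) *ᵥ _) ∈ _
      rw [Matrix.add_mulVec, Matrix.one_mulVec, Matrix.mulVec_add, vecMulVec_mulVec', Matrix.mulVec_smul,
        Matrix.mulVec_mulVec, ← Units.val_mul, inv_mul_cancel, Units.val_one, Matrix.one_mulVec, ha,
        Matrix.mulVec_mulVec w, ← Units.val_mul, inv_mul_cancel, Units.val_one, Matrix.one_mulVec]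
      exact add_mem hx (Submodule.smul_mem _ _ hw)
    have := mul_mem (mul_mem hhH (hH.le hP)) (inv_mem hhH)
    simpa [mul_assoc] using this
  -- hence every elementary transvection does
  have hE : ∀ (i j : Fin n) (hij : i ≠ j) (c : F) (g : GL (Fin n) F),
      (g : Matrix (Fin n) (Fin n) F) = Matrix.transvection i j c → g ∈ H := by
    intro i j hij c g hg
    by_cases hi : (i : ℕ) < k
    · refine hH.le (mem_coordStab.mpr fun x y hx hy => ?_)
      have hxy : x ≠ y := fun e => absurd (e ▸ hx) (not_le.mpr hy)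
      have hne : ¬ (i = x ∧ j = y) := by rintro ⟨rfl, rfl⟩; omega
      simp [hg, Matrix.transvection, Matrix.one_apply_ne hxy, Matrix.single, hne]
    rw [not_lt] at hi
    obtain ⟨ψ, hψk, hψi, hψa⟩ : ∃ ψ : Fin n → F, (∀ x ∈ coordSub F n k, ψ ⬝ᵥ x = 0) ∧ ψ i = 1 ∧ ψ ⬝ᵥ a ≠ 0 := by
      by_cases hai : a i = 0
      · obtain ⟨r, hrk, hr⟩ : ∃ r : Fin n, k ≤ (r : ℕ) ∧ a r ≠ 0 := by
          by_contra hc
          push Not at hc
          exact hwa hc
        have hri : r ≠ i := fun e => hr (e ▸ hai)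
        refine ⟨Pi.single i 1 + Pi.single r 1, fun x hx => ?_, by simp [hri], ?_⟩
        · simp [add_dotProduct, hx i hi, hx r hrk]
        · simpa [add_dotProduct, hai] using hr
      · exact ⟨Pi.single i 1, fun x hx => by simp [hx i hi], by simp, by simpa using hai⟩
    let p : GL (Fin n) F := Matrix.GeneralLinearGroup.mkOfDetNeZero
      (1 + Matrix.replicateCol Unit (a - Pi.single i 1) * Matrix.replicateRow Unit ψ)
      (by rw [Matrix.det_one_add_replicateCol_mul_replicateRow, dotProduct_sub]; simpa [hψi] using hψa)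
    have hpv : ∀ x, (p : Matrix (Fin n) (Fin n) F) *ᵥ x = x + (ψ ⬝ᵥ x) • (a - Pi.single i 1) := by
      intro x
      show (1 + Matrix.replicateCol Unit (a - Pi.single i 1) * Matrix.replicateRow Unit ψ) *ᵥ x = _
      rw [Matrix.add_mulVec, Matrix.one_mulVec, ← Matrix.vecMulVec_eq, vecMulVec_mulVec']
    have hp : p ∈ coordStab F n k := mem_coordStab_iff_mulVec.mpr fun x hx => by
      rw [hpv, hψk x hx, zero_smul, add_zero]; exact hx
    have hpi : (p : Matrix (Fin n) (Fin n) F) *ᵥ Pi.single i 1 = a := by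
      rw [hpv, dotProduct_single, hψi, mul_one, one_smul, add_sub_cancel]
    set q := ((p⁻¹ : GL (Fin n) F) : Matrix (Fin n) (Fin n) F) with hq
    have hqa : q *ᵥ a = Pi.single i 1 := by
      rw [← hpi, Matrix.mulVec_mulVec, hq, ← Units.val_mul, inv_mul_cancel, Units.val_one, Matrix.one_mulVec]
    have hφ : (Pi.single j c ᵥ* q) ⬝ᵥ a = 0 := by
      rw [← Matrix.dotProduct_mulVec, hqa, dotProduct_single, Pi.single_eq_of_ne hij, zero_mul]
    have hconj : g = p⁻¹ * tv a (Pi.single j c ᵥ* q) hφ * p := by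
      refine Units.ext ?_
      rw [hg, Units.val_mul, Units.val_mul]
      show Matrix.transvection i j c = q * (1 + Matrix.vecMulVec a (Pi.single j c ᵥ* q)) * p
      have hqp : q * (p : Matrix (Fin n) (Fin n) F) = 1 := by rw [hq, ← Units.val_mul, inv_mul_cancel, Units.val_one]
      rw [Matrix.mul_add, Matrix.add_mul, mul_one, hqp, Matrix.transvection, Matrix.mul_vecMulVec, hqa,
        Matrix.vecMulVec_mul, Matrix.vecMul_vecMul, hqp, Matrix.vecMul_one]
      congr 1
      ext x y
      by_cases hx : i = x <;> by_cases hy : j = y <;>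
        simp [Matrix.single, Matrix.vecMulVec, hx, hy, eq_comm]
    rw [hconj]
    exact mul_mem (mul_mem (inv_mem (hH.le hp)) (hT _ hφ)) (hH.le hp)
  rw [eq_top_iff]
  intro g _
  obtain ⟨L, L', D, hM⟩ :=
    Matrix.Pivot.exists_list_transvec_mul_diagonal_mul_list_transvec (g : Matrix (Fin n) (Fin n) F)
  have hlist : ∀ L : List (Matrix.TransvectionStruct (Fin n) F), ∃ x ∈ H,
      (x : Matrix (Fin n) (Fin n) F) = (L.map Matrix.TransvectionStruct.toMatrix).prod := by
    intro L
    induction L with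
    | nil => exact ⟨1, one_mem H, by simp⟩
    | cons t L ih =>
      obtain ⟨x, hx, hxM⟩ := ih
      let y : GL (Fin n) F := Matrix.GeneralLinearGroup.mkOfDetNeZero t.toMatrix
        (by rw [Matrix.TransvectionStruct.det]; exact one_ne_zero)
      exact ⟨y * x, mul_mem (hE t.i t.j t.hij t.c y rfl) hx, by simp [hxM, y, Matrix.GeneralLinearGroup.mkOfDetNeZero]⟩
  obtain ⟨x, hx, hxM⟩ := hlist L
  obtain ⟨y, hy, hyM⟩ := hlist L'
  set d := x⁻¹ * g * y⁻¹ with hd
  have hdM : (d : Matrix (Fin n) (Fin n) F) = Matrix.diagonal D := by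
    rw [hd, Units.val_mul, Units.val_mul, hM, ← hxM, ← hyM, mul_assoc, mul_assoc, ← Units.val_mul, mul_inv_cancel,
      Units.val_one, mul_one, ← mul_assoc, ← Units.val_mul, inv_mul_cancel, Units.val_one, one_mul]
  have hdH : d ∈ H := hH.le (mem_coordStab.mpr fun i j hi hj => by
    have hij : i ≠ j := fun e => absurd (e ▸ hi) (not_le.mpr hj)
    rw [hdM, Matrix.diagonal_apply_ne _ hij])
  have : g = x * d * y := by rw [hd]; group
  rw [this]
  exact mul_mem (mul_mem hx hdH) hy

end Cfsg.Agent.Forms
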